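import Mathlib
import Cfsg.Agent.S0058

set_option autoImplicit false

/-!
Abstract group theory for the centralisers of the cyclic Hall subgroups of the Ree groups.
-/

namespace Cfsg.Agent.Lib.Helper5.ReeTori

section conj

variable {G : Type*} [Group G] [Finite G]

/-- an element of prime power order is conjugate into a subgroup of index prime to `p` -/
theorem exists_conj_mem_of_index (R : Subgroup G) (p : ℕ) [Fact p.Prime] (hR : ¬ p ∣ R.index)
    (y : G) (k : ℕ) (hy : orderOf y = p ^ k) : ∃ g : G, g⁻¹ * y * g ∈ R := by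
  have PR : Sylow p ↥R := default
  have h1 : IsPGroup p ((PR : Subgroup ↥R).map R.subtype) := by
    have := PR.isPGroup'
    exact this.map R.subtype
  have h2 : ¬ p ∣ ((PR : Subgroup ↥R).map R.subtype).index := by
    rw [Subgroup.index_map_subtype]
    intro h
    rcases (Nat.Prime.dvd_mul (Fact.out : p.Prime)).1 h with h | h
    · exact PR.not_dvd_index h
    · exact hR h
  let P0 : Sylow p G := IsPGroup.toSylow h1 h2
  have hP0 : (P0 : Subgroup G) = (PR : Subgroup ↥R).map R.subtype := IsPGroup.toSylow_coe h1 h2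
  have hZ : IsPGroup p (Subgroup.zpowers y) := by
    apply IsPGroup.of_card (n := k)
    rw [Nat.card_zpowers, hy]
  obtain ⟨S, hS⟩ := hZ.exists_le_sylow
  obtain ⟨g, hg⟩ := MulAction.exists_smul_eq G P0 S
  have hyS : y ∈ (S : Subgroup G) := hS (Subgroup.mem_zpowers y)
  have hy' : y ∈ ((g • P0 : Sylow p G) : Subgroup G) := by
    rw [hg]; exact hyS
  rw [Sylow.coe_subgroup_smul, Subgroup.mem_pointwise_smul_iff_inv_smul_mem] at hy'
  have e : (MulAut.conj g)⁻¹ • y = g⁻¹ * y * g := by
    rw [← map_inv, MulAut.smul_def, MulAut.conj_apply, inv_inv]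
  rw [e, hP0] at hy'
  obtain ⟨x, -, hx⟩ := hy'
  refine ⟨g, ?_⟩
  rw [← hx]
  exact x.2

end conj

section cent

variable {G : Type*} [Group G]

/-- if `H` is commutative, `y ∈ A ≤ H` and `C(y)` is commutative, then `C(A) = C(y)` -/
theorem centralizer_eq_of_mem (H A : Subgroup G) (hH : ∀ x ∈ H, ∀ x' ∈ H, x * x' = x' * x)
    (hA : A ≤ H) (y : G) (hy : y ∈ A)
    (hT : ∀ x ∈ Subgroup.centralizer {y}, ∀ x' ∈ Subgroup.centralizer {y}, x * x' = x' * x) :
    Subgroup.centralizer (A : Set G) = Subgroup.centralizer {y} := by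
  have hHT : H ≤ Subgroup.centralizer {y} := by
    intro h hh
    rw [Subgroup.mem_centralizer_iff]
    intro w hw
    rw [Set.mem_singleton_iff] at hw
    subst hw
    exact hH _ (hA hy) _ hh
  apply le_antisymm
  · intro c hc
    rw [Subgroup.mem_centralizer_iff] at hc ⊢
    intro w hw
    rw [Set.mem_singleton_iff] at hw
    subst hw
    exact hc _ hy
  · intro c hc
    rw [Subgroup.mem_centralizer_iff]
    intro a ha
    exact hT _ (hHT (hA ha)) _ hc

/-- a non-trivial subgroup contains an element of prime order -/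
theorem exists_prime_order_mem [Finite G] (A : Subgroup G) (hA : A ≠ ⊥) :
    ∃ y ∈ A, ∃ p : ℕ, p.Prime ∧ orderOf y = p ∧ p ∣ Nat.card A := by
  obtain ⟨a', ha'1⟩ := (Subgroup.ne_bot_iff_exists_ne_one).1 hA
  obtain ⟨a, ha, ha1⟩ : ∃ a : G, a ∈ A ∧ a ≠ 1 :=
    ⟨(a' : G), a'.2, fun h => ha'1 (Subtype.ext h)⟩
  have hd0 : orderOf a ≠ 0 := (orderOf_pos a).ne'
  have hd1 : orderOf a ≠ 1 := fun h => ha1 (orderOf_eq_one_iff.1 h)
  obtain ⟨p, hp, hpd⟩ := Nat.exists_prime_and_dvd hd1
  refine ⟨a ^ (orderOf a / p), A.pow_mem ha _, p, hp, orderOf_pow_orderOf_div hd0 hpd, ?_⟩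
  have h1 : orderOf (⟨a, ha⟩ : ↥A) = orderOf a := (Subgroup.orderOf_coe ⟨a, ha⟩).symm
  have h2 : orderOf (⟨a, ha⟩ : ↥A) ∣ Nat.card A := orderOf_dvd_natCard _
  rw [h1] at h2
  exact dvd_trans hpd h2

end cent

section klein

variable {C : Type*} [Group C] [Finite C]

/-- a group with Klein four Sylow `2`-subgroup `E`, all of whose involutions have their
centralisers inside a commutative subgroup `T`, and without elements of order `3`, is `T` -/
theorem eq_top_of_klein (E T : Subgroup C) (hE4 : Nat.card E = 4) (hE2 : ∀ x ∈ E, x * x = 1)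
    (hC8 : ¬ 8 ∣ Nat.card C)
    (hT : ∀ x ∈ T, ∀ x' ∈ T, x * x' = x' * x)
    (hcent : ∀ t ∈ E, t ≠ 1 → ∀ c : C, c * t = t * c → c ∈ T)
    (h3 : ∀ w : C, ¬ 3 ∣ orderOf w) : T = ⊤ := by
  classical
  have hEcomm : ∀ x ∈ E, ∀ x' ∈ E, x * x' = x' * x := by
    intro x hx x' hx'
    have h1 := hE2 _ (E.mul_mem hx hx')
    have h2 := hE2 x hx
    have h3 := hE2 x' hx'
    have e1 : x' * x = x⁻¹ * (x * x' * (x * x')) * x'⁻¹ := by group
    rw [e1, h1, mul_one]
    have e2 : x⁻¹ = x := inv_eq_of_mul_eq_one_right h2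
    have e3 : x'⁻¹ = x' := inv_eq_of_mul_eq_one_right h3
    rw [e2, e3]
  have hEne : ∃ t ∈ E, t ≠ 1 := by
    by_contra hcon
    push Not at hcon
    have : E = ⊥ := (Subgroup.eq_bot_iff_forall E).2 hcon
    rw [this, Subgroup.card_bot] at hE4
    norm_num at hE4
  have hET : E ≤ T := by
    intro x hx
    obtain ⟨t, ht, ht1⟩ := hEne
    exact hcent t ht ht1 x (hEcomm x hx t ht)
  -- `E` is a Sylow `2`-subgroup
  have h4 : 4 ∣ Nat.card C := by
    rw [← hE4]
    exact Subgroup.card_subgroup_dvd_card E
  have hfac : (Nat.card C).factorization 2 = 2 := by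
    have hpos : Nat.card C ≠ 0 := Nat.card_pos.ne'
    have h5 : 2 ^ 2 ∣ Nat.card C := by norm_num; exact h4
    have h6 : ¬ 2 ^ 3 ∣ Nat.card C := by norm_num; exact hC8
    have h7 := (Nat.Prime.pow_dvd_iff_le_factorization Nat.prime_two hpos).1 h5
    have h8 : ¬ 3 ≤ (Nat.card C).factorization 2 := fun h =>
      h6 ((Nat.Prime.pow_dvd_iff_le_factorization Nat.prime_two hpos).2 h)
    omega
  let P : Sylow 2 C := Sylow.ofCard E (by rw [hE4, hfac]; norm_num)
  have hP : (P : Subgroup C) = E := Sylow.coe_ofCard _ _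
  -- the normaliser of `E` centralises `E`
  have hNC : Subgroup.normalizer ((P : Subgroup C) : Set C) ≤
      Subgroup.centralizer ((P : Subgroup C) : Set C) := by
    rw [hP]
    intro n hn
    rw [Subgroup.mem_centralizer_iff]
    intro t ht
    by_contra hne
    have ht1 : t ≠ 1 := by
      rintro rfl
      exact hne (by rw [one_mul, mul_one])
    have hcj : ∀ x ∈ E, n * x * n⁻¹ ∈ E := fun x hx => (Subgroup.mem_normalizer_iff.1 hn x).1 hx
    obtain ⟨t', ht'def⟩ : ∃ t', t' = n * t * n⁻¹ := ⟨_, rfl⟩
    have ht'E : t' ∈ E := by rw [ht'def]; exact hcj t ht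
    have htt' : t' ≠ t := by
      intro h
      apply hne
      rw [ht'def] at h
      calc t * n = n * t * n⁻¹ * n := by rw [h]
        _ = n * t := by group
    have ht'1 : t' ≠ 1 := by
      intro h
      apply ht1
      rw [ht'def] at h
      calc t = n⁻¹ * (n * t * n⁻¹) * n := by group
        _ = 1 := by rw [h]; group
    -- the four elements of `E`
    have hEset : ∀ x ∈ E, x = 1 ∨ x = t ∨ x = t' ∨ x = t * t' := by
      have hsub : ({1, t, t', t * t'} : Set C) ⊆ (E : Set C) := by
        intro x hx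
        simp only [Set.mem_insert_iff, Set.mem_singleton_iff] at hx
        rcases hx with rfl | rfl | rfl | rfl
        · exact E.one_mem
        · exact ht
        · exact ht'E
        · exact E.mul_mem ht ht'E
      have hs1 : t * t' ≠ 1 := by
        intro h
        apply htt'
        have : t * t' = t * t := by rw [h, hE2 t ht]
        exact mul_left_cancel this
      have hs2 : t * t' ≠ t := by
        intro h
        apply ht'1
        have : t * t' = t * 1 := by rw [h, mul_one]
        exact mul_left_cancel this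
      have hs3 : t * t' ≠ t' := by
        intro h
        apply ht1
        have : t * t' = 1 * t' := by rw [h, one_mul]
        exact mul_right_cancel this
      have hcard : ({1, t, t', t * t'} : Set C).ncard = 4 := by
        rw [Set.ncard_insert_of_notMem, Set.ncard_insert_of_notMem,
          Set.ncard_insert_of_notMem, Set.ncard_singleton]
        · simp only [Set.mem_singleton_iff]
          exact fun h => hs3 h.symm
        · simp only [Set.mem_insert_iff, Set.mem_singleton_iff, not_or]
          exact ⟨fun h => htt' h.symm, fun h => hs2 h.symm⟩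
        · simp only [Set.mem_insert_iff, Set.mem_singleton_iff, not_or]
          exact ⟨fun h => ht1 h.symm, fun h => ht'1 h.symm, fun h => hs1 h.symm⟩
      have hEcard : (E : Set C).ncard = 4 := by
        rw [← Nat.card_coe_set_eq]
        exact hE4
      have heq : ({1, t, t', t * t'} : Set C) = (E : Set C) :=
        Set.eq_of_subset_of_ncard_le hsub (by rw [hcard, hEcard]) (Set.toFinite _)
      intro x hx
      have : x ∈ ({1, t, t', t * t'} : Set C) := by rw [heq]; exact hx
      simpa only [Set.mem_insert_iff, Set.mem_singleton_iff] using this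
    -- `n` does not centralise any involution of `E`
    have hnofix : ∀ s ∈ E, s ≠ 1 → n * s * n⁻¹ ≠ s := by
      intro s hs hs1 h
      have hc : n * s = s * n := by
        calc n * s = n * s * n⁻¹ * n := by group
          _ = s * n := by rw [h]
      have hnT := hcent s hs hs1 n hc
      apply hne
      exact hT _ (hET ht) _ hnT
    -- the image of `t'`
    have ht'' : n * t' * n⁻¹ = t * t' := by
      rcases hEset _ (hcj t' ht'E) with h | h | h | h
      · exfalso
        apply ht'1
        calc t' = n⁻¹ * (n * t' * n⁻¹) * n := by group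
          _ = 1 := by rw [h]; group
      · exfalso
        -- then `n` fixes `t * t'`
        apply hnofix (t * t') (E.mul_mem ht ht'E)
        · intro h1
          apply htt'
          have : t * t' = t * t := by rw [h1, hE2 t ht]
          exact mul_left_cancel this
        · have e1 : n * (t * t') * n⁻¹ = (n * t * n⁻¹) * (n * t' * n⁻¹) := by group
          rw [e1, h, ← ht'def]
          exact hEcomm _ ht'E _ ht
      · exact absurd h (hnofix t' ht'E ht'1)
      · exact h
    have ht''' : n * (t * t') * n⁻¹ = t := by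
      have e1 : n * (t * t') * n⁻¹ = (n * t * n⁻¹) * (n * t' * n⁻¹) := by group
      rw [e1, ht'', ← ht'def, hEcomm _ ht'E _ (E.mul_mem ht ht'E), mul_assoc, hE2 _ ht'E, mul_one]
    -- `n ^ 3` commutes with `t`
    have hn3 : Commute (n ^ 3) t := by
      show n ^ 3 * t = t * n ^ 3
      have e1 : n ^ 3 * t * (n ^ 3)⁻¹ = n * (n * (n * t * n⁻¹) * n⁻¹) * n⁻¹ := by
        have e0 : n ^ 3 = n * (n * n) := by rw [pow_succ, pow_two, mul_assoc]
        rw [e0]
        simp only [mul_inv_rev, mul_assoc]
      have e2 : n ^ 3 * t * (n ^ 3)⁻¹ = t := by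
        rw [e1, ← ht'def, ht'', ht''']
      calc n ^ 3 * t = n ^ 3 * t * (n ^ 3)⁻¹ * n ^ 3 := by
            rw [inv_mul_cancel_right]
        _ = t * n ^ 3 := by rw [e2]
    -- `3` does not divide the order of `n`
    have hcop : Nat.Coprime 3 (orderOf n) :=
      (Nat.Prime.coprime_iff_not_dvd Nat.prime_three).2 (h3 n)
    have hb := Int.gcd_eq_gcd_ab 3 (orderOf n)
    have hg1 : Int.gcd 3 (orderOf n) = 1 := by
      have : Int.gcd ((3 : ℕ) : ℤ) ((orderOf n : ℕ) : ℤ) = Nat.gcd 3 (orderOf n) := Int.gcd_natCast_natCast _ _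
      rw [hcop] at this
      exact_mod_cast this
    rw [hg1] at hb
    have hn1 : n = (n ^ 3) ^ (Int.gcdA 3 (orderOf n)) := by
      have e1 : n = n ^ (1 : ℤ) := (zpow_one n).symm
      have e2 : n ^ ((3 : ℤ) * Int.gcdA 3 (orderOf n) + (orderOf n : ℤ) * Int.gcdB 3 (orderOf n))
          = (n ^ 3) ^ (Int.gcdA 3 (orderOf n)) := by
        rw [zpow_add, zpow_mul, zpow_mul, zpow_natCast, pow_orderOf_eq_one, one_zpow, mul_one]
        norm_cast
      rw [← e2, ← hb]
      exact_mod_cast e1
    have hcn : Commute n t := by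
      rw [hn1]
      exact hn3.zpow_left _
    exact hne hcn.eq.symm
  -- Burnside's transfer theorem
  have hcompl := MonoidHom.ker_transferSylow_isComplement' P hNC
  obtain ⟨M, hMdef⟩ : ∃ M : Subgroup C, M = (MonoidHom.transferSylow P hNC).ker := ⟨_, rfl⟩
  rw [← hMdef, hP] at hcompl
  have hMn : M.Normal := by rw [hMdef]; exact MonoidHom.normal_ker _
  have hcardM : Nat.card M * 4 = Nat.card C := by
    rw [← hE4]
    exact hcompl.card_mul_card
  have hModd : ¬ 2 ∣ Nat.card M := by
    intro h
    apply hC8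
    rw [← hcardM]
    obtain ⟨k, hk⟩ := h
    exact ⟨k, by rw [hk]; ring⟩
  -- generation by centralisers
  have hEmc : IsMulCommutative E := ⟨⟨fun a b => Subtype.ext (hEcomm a a.2 b b.2)⟩⟩
  have hEnc : ¬ IsCyclic E := by
    intro hcyc
    obtain ⟨g, hg⟩ := hcyc.exists_generator
    have h5 : orderOf g = 4 := by
      rw [orderOf_eq_card_of_forall_mem_zpowers hg, hE4]
    have h6 : g ^ 2 = 1 := by
      apply Subtype.ext
      rw [Subgroup.coe_pow, pow_two]
      exact hE2 _ g.2
    have := orderOf_dvd_of_pow_eq_one h6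
    rw [h5] at this
    norm_num at this
  have hEN : E ≤ Subgroup.normalizer (M : Set C) := by
    rw [Subgroup.normalizer_eq_top]
    exact le_top
  have hcop : (Nat.card E).Coprime (Nat.card M) := by
    rw [hE4]
    have : (4 : ℕ) = 2 ^ 2 := by norm_num
    rw [this]
    exact Nat.Coprime.pow_left 2 ((Nat.Prime.coprime_iff_not_dvd Nat.prime_two).2 hModd)
  have hgen := Cfsg.Agent.S0058.result E M hEnc hEN hcop
  have hMT : M ≤ T := by
    rw [← hgen]
    apply iSup_le
    intro a
    apply iSup_le
    rintro ⟨haE, ha1⟩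
    intro c hc
    obtain ⟨-, hc2⟩ := Subgroup.mem_inf.1 hc
    rw [Subgroup.mem_centralizer_iff] at hc2
    exact hcent a haE ha1 c (hc2 a (Set.mem_singleton _)).symm
  rw [eq_top_iff, ← hcompl.sup_eq_top]
  exact sup_le hMT hET

end klein

end Cfsg.Agent.Lib.Helper5.ReeTori
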