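import Mathlib
import Cfsg.Prelude.Def_ChevStructure
import Cfsg.Prelude.Def_LieTwisted
import Cfsg.Agent.Lib.Helper5.Ree.Ident

set_option autoImplicit false

/-!
Symbolic checks for the rank one subgroup `⟨x_{a+b}(u^θ) x_{3a+b}(u), x_{-a-b}(u^θ) x_{-3a-b}(u)⟩`
of the Ree group: conjugation by `n = x(1) y(-1) x(1)`.
-/

namespace Cfsg.Agent.Lib.Helper5.ReeCent

open Cfsg Cfsg.Lie Cfsg.Agent.Lib.Helper5.ChevSym Cfsg.Agent.Lib.Helper5.ChevSymP
  Cfsg.Agent.Lib.Helper5.Ree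

/-- the word of `n` -/
def nWP : List (ℕ × PolyP) :=
  [(8, [([0,0], 1)]), (10, [([0,0], 1)]), (3, [([0,0], -1)]), (1, [([0,0], -1)]),
   (8, [([0,0], 1)]), (10, [([0,0], 1)])]

-- variables: u = 0, U = 1
def cA1 : List (ℕ × PolyP) := nWP ++ [(8, [([0,1], 1)]), (10, [([1,0], 1)])]

def cA2 : List (ℕ × PolyP) := [(3, [([0,1], -1)]), (1, [([1,0], -1)])] ++ nWP

def cB1 : List (ℕ × PolyP) := nWP ++ [(3, [([0,1], 1)]), (1, [([1,0], 1)])]

def cB2 : List (ℕ × PolyP) := [(8, [([0,1], -1)]), (10, [([1,0], -1)])] ++ nWP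

set_option maxRecDepth 1000000 in
theorem chk_A : ∀ col ∈ allCols,
    vecEqP 3 (wordColP chevG2 3 cA1 col) (wordColP chevG2 3 cA2 col) = true := by decide +kernel

set_option maxRecDepth 1000000 in
theorem chk_B : ∀ col ∈ allCols,
    vecEqP 3 (wordColP chevG2 3 cB1 col) (wordColP chevG2 3 cB2 col) = true := by decide +kernel

section

variable {K : Type*} [Field K]

/-- `n x(u) = y(-u) n` -/
theorem n_mul_x (hp : ((3 : ℕ) : K) = 0) (u U : K) :
    chevG2.wordMat K [(8, 1), (10, 1), (3, -1), (1, -1), (8, 1), (10, 1), (8, U), (10, u)]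
      = chevG2.wordMat K [(3, -U), (1, -u), (8, 1), (10, 1), (3, -1), (1, -1), (8, 1), (10, 1)] := by
  have h := wordMat_eq_of_check hp [u, U] cA1 cA2 (by decide) chk_A
  have e1 : evalWP [u, U] cA1
      = [(8, 1), (10, 1), (3, -1), (1, -1), (8, 1), (10, 1), (8, U), (10, u)] := by
    simp [evalWP, cA1, nWP, evalPolyP, evalMonoP, monoVal]
  have e2 : evalWP [u, U] cA2
      = [(3, -U), (1, -u), (8, 1), (10, 1), (3, -1), (1, -1), (8, 1), (10, 1)] := by
    simp [evalWP, cA2, nWP, evalPolyP, evalMonoP, monoVal]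
  rw [e1, e2] at h
  exact h

/-- `n y(u) = x(-u) n` -/
theorem n_mul_y (hp : ((3 : ℕ) : K) = 0) (u U : K) :
    chevG2.wordMat K [(8, 1), (10, 1), (3, -1), (1, -1), (8, 1), (10, 1), (3, U), (1, u)]
      = chevG2.wordMat K [(8, -U), (10, -u), (8, 1), (10, 1), (3, -1), (1, -1), (8, 1), (10, 1)] := by
  have h := wordMat_eq_of_check hp [u, U] cB1 cB2 (by decide) chk_B
  have e1 : evalWP [u, U] cB1
      = [(8, 1), (10, 1), (3, -1), (1, -1), (8, 1), (10, 1), (3, U), (1, u)] := by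
    simp [evalWP, cB1, nWP, evalPolyP, evalMonoP, monoVal]
  have e2 : evalWP [u, U] cB2
      = [(8, -U), (10, -u), (8, 1), (10, 1), (3, -1), (1, -1), (8, 1), (10, 1)] := by
    simp [evalWP, cB2, nWP, evalPolyP, evalMonoP, monoVal]
  rw [e1, e2] at h
  exact h

end

end Cfsg.Agent.Lib.Helper5.ReeCent
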