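import Mathlib
import Cfsg.Prelude.Def_ChevStructure
import Cfsg.Prelude.Def_LieTwisted
import Cfsg.Agent.Lib.Helper5.Ree.USub
import Cfsg.Agent.Lib.Helper5.ReeCent.Chk

set_option autoImplicit false

/-!
The rank one subgroup `⟨x(u), y(u)⟩` of the Ree group, `x(u) = x_{a+b}(u^θ) x_{3a+b}(u)`,
`y(u) = x_{-a-b}(u^θ) x_{-3a-b}(u)`: the Steinberg relations of `SL₂`.
-/

namespace Cfsg.Agent.Lib.Helper5.ReeCent

open Cfsg Cfsg.Lie Cfsg.Agent.Lib.Helper5.ChevSym Cfsg.Agent.Lib.Helper5.ChevSymP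
  Cfsg.Agent.Lib.Helper5.ChevStruct Cfsg.Agent.Lib.Helper5.Ree

variable {K : Type*} [Field K] [CharP K 3] (m : ℕ)

/-- `x(t) = x_{a+b}(t^θ) x_{3a+b}(t)` -/
noncomputable def xE (t : K) : GL chevG2.Idx K :=
  xGL chevG2 hG2 8 (ph m t) * xGL chevG2 hG2 10 t

/-- `y(t) = x_{-a-b}(t^θ) x_{-3a-b}(t)` -/
noncomputable def yE (t : K) : GL chevG2.Idx K :=
  xGL chevG2 hG2 3 (ph m t) * xGL chevG2 hG2 1 t

omit [CharP K 3] in
theorem xGL_add_g2 (r : ℕ) (a b : K) :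
    xGL chevG2 hG2 r (a + b) = xGL chevG2 hG2 r a * xGL chevG2 hG2 r b := by
  apply Units.ext
  rw [Units.val_mul, xGL_val, xGL_val, xGL_val, x_add chevG2 hG2]

theorem xE_eq_al (t : K) : xE m t = al m 0 t 0 := by
  unfold xE al
  rw [reeU_0y0]

theorem yE_eq_reeV (t : K) : yE m t = wordGL chevG2 hG2 (reeWordV (3 ^ m) 0 (-t) 0) := by
  unfold yE
  rw [reeV_0y0, map_neg, neg_neg, neg_neg]

theorem xE_mem (t : K) : xE m t ∈ twistedG2 K (3 ^ m) := by
  rw [xE_eq_al]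
  exact reeU_mem_twisted m _ _ _

theorem yE_mem (t : K) : yE m t ∈ twistedG2 K (3 ^ m) := by
  rw [yE_eq_reeV]
  exact reeV_mem_twisted m _ _ _

theorem xE_add (t u : K) : xE m (t + u) = xE m t * xE m u := by
  unfold xE
  rw [map_add, xGL_add_g2, xGL_add_g2]
  have hc : Commute (xGL chevG2 hG2 10 t) (xGL chevG2 hG2 8 (ph m u)) :=
    xGL_commute chevG2 hG2 _ _ commOK_facts.2.1 _ _
  calc xGL chevG2 hG2 8 (ph m t) * xGL chevG2 hG2 8 (ph m u)
        * (xGL chevG2 hG2 10 t * xGL chevG2 hG2 10 u)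
      = xGL chevG2 hG2 8 (ph m t) * (xGL chevG2 hG2 8 (ph m u) * xGL chevG2 hG2 10 t)
        * xGL chevG2 hG2 10 u := by group
    _ = xGL chevG2 hG2 8 (ph m t) * (xGL chevG2 hG2 10 t * xGL chevG2 hG2 8 (ph m u))
        * xGL chevG2 hG2 10 u := by rw [hc.eq]
    _ = _ := by group

theorem yE_add (t u : K) : yE m (t + u) = yE m t * yE m u := by
  unfold yE
  rw [map_add, xGL_add_g2, xGL_add_g2]
  have hc : Commute (xGL chevG2 hG2 1 t) (xGL chevG2 hG2 3 (ph m u)) :=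
    xGL_commute chevG2 hG2 _ _ commOK_facts.2.2.2 _ _
  calc xGL chevG2 hG2 3 (ph m t) * xGL chevG2 hG2 3 (ph m u)
        * (xGL chevG2 hG2 1 t * xGL chevG2 hG2 1 u)
      = xGL chevG2 hG2 3 (ph m t) * (xGL chevG2 hG2 3 (ph m u) * xGL chevG2 hG2 1 t)
        * xGL chevG2 hG2 1 u := by group
    _ = xGL chevG2 hG2 3 (ph m t) * (xGL chevG2 hG2 1 t * xGL chevG2 hG2 3 (ph m u))
        * xGL chevG2 hG2 1 u := by rw [hc.eq]
    _ = _ := by group

theorem xE_zero : xE m (0 : K) = 1 := by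
  unfold xE
  rw [map_zero, xGL_zero', xGL_zero', mul_one]

theorem yE_zero : yE m (0 : K) = 1 := by
  unfold yE
  rw [map_zero, xGL_zero', xGL_zero', mul_one]

theorem xE_inv (t : K) : (xE m t)⁻¹ = xE m (-t) := by
  rw [inv_eq_iff_mul_eq_one, ← xE_add, add_neg_cancel, xE_zero]

theorem yE_inv (t : K) : (yE m t)⁻¹ = yE m (-t) := by
  rw [inv_eq_iff_mul_eq_one, ← yE_add, add_neg_cancel, yE_zero]

/-- `n = x(1) y(-1) x(1)` -/
noncomputable def nE : GL chevG2.Idx K := xE m 1 * yE m (-1) * xE m 1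

theorem nE_eq_n0 : nE (K := K) m = n0 K := by
  have e : n0 K = wordGL chevG2 hG2 (n0W.map fun p => (p.1, ((p.2 : ℤ) : K))) := by
    rw [n0_eq_word]
    apply Units.ext
    rw [wordGL_val, wordGL_val, n0_eq three_eq_zero]
  rw [e, n0W_eq m, Ree.wordGL_append', Ree.wordGL_append']
  unfold nE
  rw [xE_eq_al, yE_eq_reeV, neg_neg]
  rfl

theorem nE_mem : nE (K := K) m ∈ twistedG2 K (3 ^ m) :=
  mul_mem (mul_mem (xE_mem m _) (yE_mem m _)) (xE_mem m _)

theorem nE_word : nE (K := K) m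
    = wordGL chevG2 hG2 [(8, 1), (10, 1), (3, -1), (1, -1), (8, 1), (10, 1)] := by
  unfold nE xE yE
  simp [wordGL, map_one, map_neg, mul_assoc]

theorem nE_mul_xE (u : K) : nE m * xE m u = yE m (-u) * nE m := by
  rw [nE_word]
  have e1 : wordGL chevG2 hG2 [(8, (1 : K)), (10, 1), (3, -1), (1, -1), (8, 1), (10, 1)] * xE m u
      = wordGL chevG2 hG2 [(8, 1), (10, 1), (3, -1), (1, -1), (8, 1), (10, 1), (8, ph m u), (10, u)] := by
    unfold xE
    simp [wordGL, mul_assoc]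
  have e2 : yE m (-u) * wordGL chevG2 hG2 [(8, (1 : K)), (10, 1), (3, -1), (1, -1), (8, 1), (10, 1)]
      = wordGL chevG2 hG2 [(3, -(ph m u)), (1, -u), (8, 1), (10, 1), (3, -1), (1, -1), (8, 1), (10, 1)] := by
    unfold yE
    simp [wordGL, mul_assoc]
  rw [e1, e2]
  apply Units.ext
  rw [wordGL_val, wordGL_val]
  exact n_mul_x three_eq_zero u (ph m u)

theorem nE_mul_yE (u : K) : nE m * yE m u = xE m (-u) * nE m := by
  rw [nE_word]
  have e1 : wordGL chevG2 hG2 [(8, (1 : K)), (10, 1), (3, -1), (1, -1), (8, 1), (10, 1)] * yE m u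
      = wordGL chevG2 hG2 [(8, 1), (10, 1), (3, -1), (1, -1), (8, 1), (10, 1), (3, ph m u), (1, u)] := by
    unfold yE
    simp [wordGL, mul_assoc]
  have e2 : xE m (-u) * wordGL chevG2 hG2 [(8, (1 : K)), (10, 1), (3, -1), (1, -1), (8, 1), (10, 1)]
      = wordGL chevG2 hG2 [(8, -(ph m u)), (10, -u), (8, 1), (10, 1), (3, -1), (1, -1), (8, 1), (10, 1)] := by
    unfold xE
    simp [wordGL, mul_assoc]
  rw [e1, e2]
  apply Units.ext
  rw [wordGL_val, wordGL_val]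
  exact n_mul_y three_eq_zero u (ph m u)

theorem nE_conj_xE (u : K) : nE m * xE m u * (nE m)⁻¹ = yE m (-u) := by
  rw [nE_mul_xE, mul_assoc, mul_inv_cancel, mul_one]

theorem nE_conj_yE (u : K) : nE m * yE m u * (nE m)⁻¹ = xE m (-u) := by
  rw [nE_mul_yE, mul_assoc, mul_inv_cancel, mul_one]

/-- `w(t) = x(t) y(-t⁻¹) x(t)` -/
noncomputable def wE (t : K) : GL chevG2.Idx K := xE m t * yE m (-t⁻¹) * xE m t

theorem wE_one : wE m (1 : K) = nE m := by
  unfold wE nE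
  rw [inv_one]

theorem wE_eq_nEl (t : K) : wE m t = nEl 8 (ph m t) * nEl 10 t := by
  rw [← mEl_eq]
  unfold wE
  rw [xE_eq_al, yE_eq_reeV, neg_neg]
  rfl

omit [CharP K 3] in
theorem nEl_eq_hEl (r : ℕ) (t : K) : nEl r t = hEl r t * nEl r 1 := by
  rw [hEl_eq, mul_assoc, ← nEl_one_inv, inv_mul_cancel, mul_one]

omit [CharP K 3] in
theorem commute_nEl8_hEl10 (t : K) : Commute (nEl 8 (1 : K)) (hEl 10 t) := by
  apply Commute.symm
  have := commute_long_short (chevG2.hWord 10 t) (chevG2.nWord 8 (1 : K)) (by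
      intro p hp
      simp only [ChevalleyDatum.hWord, ChevalleyDatum.nWord, List.cons_append, List.nil_append,
        List.mem_cons, List.not_mem_nil, or_false] at hp
      have e10 : chevG2.neg 10 = 1 := rfl
      rw [e10] at hp
      rcases hp with rfl | rfl | rfl | rfl | rfl | rfl <;> simp) (by
      intro p hp
      simp only [ChevalleyDatum.nWord, List.mem_cons, List.not_mem_nil, or_false] at hp
      have e8 : chevG2.neg 8 = 3 := rfl
      rw [e8] at hp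
      rcases hp with rfl | rfl | rfl <;> simp)
  exact this

/-- `τ(y) = y^{3θ+1}` -/
def tauU (y : Kˣ) : Kˣ := y * y ^ 3 ^ (m + 1)

omit [CharP K 3] in
theorem tauU_val (y : Kˣ) : ((tauU m y : Kˣ) : K) = (y : K) * (y : K) ^ 3 ^ (m + 1) := by
  unfold tauU
  rw [Units.val_mul, Units.val_pow_eq_pow_val]

theorem wE_eq_hz (hq : ∀ x : K, x ^ 3 ^ (2 * m + 1) = x) (y : Kˣ) :
    wE m (y : K) = hz m (tauU m y) * nE m := by
  have h1 := hh_eq_hz m hq y
  have e0 : Units.mk0 ((y : K) * ps m (y : K)) (mul_ne_zero y.ne_zero (by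
      rw [ps_apply]; exact pow_ne_zero _ y.ne_zero)) = tauU m y := by
    apply Units.ext
    rw [Units.val_mk0, tauU_val, ps_apply]
  rw [e0] at h1
  rw [← h1, ← wE_one, wE_eq_nEl, wE_eq_nEl, map_one, nEl_eq_hEl 8 (ph m (y : K)),
    nEl_eq_hEl 10 (y : K)]
  have hc := commute_nEl8_hEl10 (y : K)
  calc hEl 8 (ph m (y : K)) * nEl 8 1 * (hEl 10 (y : K) * nEl 10 1)
      = hEl 8 (ph m (y : K)) * (nEl 8 1 * hEl 10 (y : K)) * nEl 10 1 := by group
    _ = hEl 8 (ph m (y : K)) * (hEl 10 (y : K) * nEl 8 1) * nEl 10 1 := by rw [hc.eq]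
    _ = _ := by group

theorem ps_ps (hq : ∀ x : K, x ^ 3 ^ (2 * m + 1) = x) (x : K) : ps m (ps m x) = x ^ 3 := by
  rw [ps_apply, ps_apply, ← pow_mul, ← pow_add]
  have : m + 1 + (m + 1) = (2 * m + 1) + 1 := by ring
  rw [this, pow_succ, pow_mul, hq]

omit [CharP K 3] in
theorem cartan_vals3 : chevG2.cartan 0 1 = -3 ∧ chevG2.cartan 1 1 = 1 ∧ chevG2.cartan 0 3 = 1 ∧
    chevG2.cartan 1 3 = -1 := by decide

omit [CharP K 3] in
theorem chi_one' (c : ℕ → K) : chi chevG2 c 1 = (c 0) ^ (-3 : ℤ) * (c 1) ^ (1 : ℤ) := by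
  unfold chi
  have : List.range chevG2.rank = [0, 1] := rfl
  rw [this]
  simp only [List.map_cons, List.map_nil, List.prod_cons, List.prod_nil]
  rw [cartan_vals3.1, cartan_vals3.2.1, mul_one]

omit [CharP K 3] in
theorem chi_three' (c : ℕ → K) : chi chevG2 c 3 = (c 0) ^ (1 : ℤ) * (c 1) ^ (-1 : ℤ) := by
  unfold chi
  have : List.range chevG2.rank = [0, 1] := rfl
  rw [this]
  simp only [List.map_cons, List.map_nil, List.prod_cons, List.prod_nil]
  rw [cartan_vals3.2.2.1, cartan_vals3.2.2.2, mul_one]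

theorem hzF_zero (z : Kˣ) : hzF m z 0 = ph m (z : K) := by simp [hzF]

theorem hzF_one (z : Kˣ) : hzF m z 1 = (z : K) := by simp [hzF]

theorem ph_ne_zero (z : Kˣ) : ph m (z : K) ≠ 0 := by
  rw [ph_apply]; exact pow_ne_zero _ z.ne_zero

/-- the character `χ(z) = z^{3θ-1}` by which `h(z)` acts on `x(u)` -/
theorem chi10_eq (z : Kˣ) : chi chevG2 (hzF m z) 10 = ps m (z : K) * (z : K)⁻¹ := by
  rw [chi_ten, hzF_zero, hzF_one, zpow_neg, zpow_one, ps_eq]
  norm_cast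

theorem chi1_eq (z : Kˣ) : chi chevG2 (hzF m z) 1 = (chi chevG2 (hzF m z) 10)⁻¹ := by
  rw [chi10_eq, chi_one', hzF_zero, hzF_one, zpow_neg, zpow_one, ps_eq, mul_inv, inv_inv]
  norm_cast

theorem chi3_eq (hq : ∀ x : K, x ^ 3 ^ (2 * m + 1) = x) (z : Kˣ) :
    chi chevG2 (hzF m z) 3 = ph m (chi chevG2 (hzF m z) 10)⁻¹ := by
  rw [chi10_eq, chi_three', hzF_zero, hzF_one, zpow_neg, zpow_one, zpow_one, mul_inv, inv_inv,
    map_mul, map_inv₀, ph_ps m hq, mul_comm]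

theorem chi10_tau (hq : ∀ x : K, x ^ 3 ^ (2 * m + 1) = x) (y : Kˣ) :
    chi chevG2 (hzF m (tauU m y)) 10 = (y : K) ^ 2 := by
  rw [chi10_eq, tauU_val, ← ps_apply, map_mul, ps_ps m hq]
  have h1 : (y : K) ≠ 0 := y.ne_zero
  have h2 : ps m (y : K) ≠ 0 := by rw [ps_apply]; exact pow_ne_zero _ h1
  field_simp

theorem hz_conj_xE [Fintype K] (hq : ∀ x : K, x ^ 3 ^ (2 * m + 1) = x) (z : Kˣ) (u : K) :
    hz m z * xE m u * (hz m z)⁻¹ = xE m (chi chevG2 (hzF m z) 10 * u) := by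
  rw [xE_eq_al, xE_eq_al, hz_conj_al m hq, mul_zero, mul_zero]

theorem yE_word (u : K) : yE m u = wordGL chevG2 hG2 [(3, ph m u), (1, u)] := by
  unfold yE
  simp [wordGL]

theorem hz_conj_yE (hq : ∀ x : K, x ^ 3 ^ (2 * m + 1) = x) (z : Kˣ) (u : K) :
    hz m z * yE m u * (hz m z)⁻¹ = yE m ((chi chevG2 (hzF m z) 10)⁻¹ * u) := by
  have hv : ((hz m z : GL chevG2.Idx K) : Matrix chevG2.Idx chevG2.Idx K)
      = torusMat chevG2 (hzF m z) := hz_val m z
  have h1 : hz m z * yE m u = yE m ((chi chevG2 (hzF m z) 10)⁻¹ * u) * hz m z := by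
    rw [yE_word, yE_word]
    apply Units.ext
    rw [Units.val_mul, Units.val_mul, hv, wordGL_val, wordGL_val,
      torus_conj_word chevG2 hG2 (hzF m z) (hzFun_ne_zero m z)]
    simp only [List.map_cons, List.map_nil]
    rw [chi1_eq, chi3_eq m hq, map_mul]
  rw [h1, mul_assoc, mul_inv_cancel, mul_one]

/-- the first Steinberg relation -/
theorem steinberg_x [Fintype K] (hq : ∀ x : K, x ^ 3 ^ (2 * m + 1) = x) (t u : K) (ht : t ≠ 0) :
    wE m t * xE m u * (wE m t)⁻¹ = yE m (-(t⁻¹ ^ 2 * u)) := by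
  have e := wE_eq_hz m hq (Units.mk0 t ht)
  rw [Units.val_mk0] at e
  rw [e]
  have : hz m (tauU m (Units.mk0 t ht)) * nE m * xE m u * (hz m (tauU m (Units.mk0 t ht)) * nE m)⁻¹
      = hz m (tauU m (Units.mk0 t ht)) * (nE m * xE m u * (nE m)⁻¹)
        * (hz m (tauU m (Units.mk0 t ht)))⁻¹ := by group
  rw [this, nE_conj_xE, hz_conj_yE m hq, chi10_tau m hq, Units.val_mk0]
  congr 1
  rw [inv_pow]
  ring

/-- `w'(t) = y(t) x(-t⁻¹) y(t)` -/
noncomputable def wE' (t : K) : GL chevG2.Idx K := yE m t * xE m (-t⁻¹) * yE m t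

theorem wE'_eq (t : K) : wE' m t = nE m * wE m (-t) * (nE m)⁻¹ := by
  unfold wE wE'
  have : nE m * (xE m (-t) * yE m (-(-t)⁻¹) * xE m (-t)) * (nE m)⁻¹
      = (nE m * xE m (-t) * (nE m)⁻¹) * (nE m * yE m (-(-t)⁻¹) * (nE m)⁻¹)
        * (nE m * xE m (-t) * (nE m)⁻¹) := by group
  rw [this, nE_conj_xE, nE_conj_yE, neg_neg, neg_neg, inv_neg]

/-- the second Steinberg relation -/
theorem steinberg_y [Fintype K] (hq : ∀ x : K, x ^ 3 ^ (2 * m + 1) = x) (t u : K) (ht : t ≠ 0) :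
    wE' m t * yE m u * (wE' m t)⁻¹ = xE m (-(t⁻¹ ^ 2 * u)) := by
  rw [wE'_eq]
  have h1 : (nE m)⁻¹ * yE m u * nE m = xE m (-u) := by
    have := nE_conj_xE m (-u)
    rw [neg_neg] at this
    rw [← this]; group
  have : nE m * wE m (-t) * (nE m)⁻¹ * yE m u * (nE m * wE m (-t) * (nE m)⁻¹)⁻¹
      = nE m * (wE m (-t) * ((nE m)⁻¹ * yE m u * nE m) * (wE m (-t))⁻¹) * (nE m)⁻¹ := by group
  rw [this, h1, steinberg_x m hq (-t) (-u) (neg_ne_zero.2 ht), nE_conj_yE]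
  congr 1
  rw [inv_neg, neg_sq]
  ring

end Cfsg.Agent.Lib.Helper5.ReeCent
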