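import Mathlib
import Cfsg.Prelude.Def_ChevStructure
import Cfsg.Prelude.Def_LieTwisted
import Cfsg.Agent.Lib.Helper5.ReeCent.Rel
import Cfsg.Agent.Lib.Helper5.PSL2Solv.Mat
import Cfsg.Agent.S2426

set_option autoImplicit false

/-!
The homomorphism `SL₂(K) → ²G₂(K)` onto the rank one subgroup `⟨x(u), y(u)⟩`.
-/

namespace Cfsg.Agent.Lib.Helper5.ReeCent

open Cfsg Cfsg.Lie Cfsg.Agent.Lib.Helper5.ChevSym Cfsg.Agent.Lib.Helper5.ChevSymP
  Cfsg.Agent.Lib.Helper5.ChevStruct Cfsg.Agent.Lib.Helper5.Ree Cfsg.Agent.Lib.Helper5.PSL2Solv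

variable {K : Type*} [Field K] [CharP K 3] (m : ℕ)

/-- upper unitriangular -/
def uS (t : K) : Matrix.SpecialLinearGroup (Fin 2) K := mk2 1 t 0 1 (by ring)

/-- lower unitriangular -/
def lS (t : K) : Matrix.SpecialLinearGroup (Fin 2) K := mk2 1 0 t 1 (by ring)

/-- the images of the generators -/
noncomputable def genF (p : Bool × K) : ↥(twistedG2 K (3 ^ m)) :=
  match p with
  | (true, t) => ⟨xE m t, xE_mem m t⟩
  | (false, t) => ⟨yE m t, yE_mem m t⟩

theorem genF_true (t : K) : genF m (true, t) = ⟨xE m t, xE_mem m t⟩ := rfl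

theorem genF_false (t : K) : genF m (false, t) = ⟨yE m t, yE_mem m t⟩ := rfl

/-- the Steinberg relations hold in the Ree group -/
theorem genF_rels [Fintype K] (hq : ∀ x : K, x ^ 3 ^ (2 * m + 1) = x) :
    ∀ r ∈ ({g : FreeGroup (Bool × K) | ∃ (b : Bool) (t u : K),
          g = FreeGroup.of (b, t) * FreeGroup.of (b, u) * (FreeGroup.of (b, t + u))⁻¹} ∪
        {g | ∃ (b : Bool) (t u : K), t ≠ 0 ∧
          g = (FreeGroup.of (b, t) * FreeGroup.of (!b, -t⁻¹) * FreeGroup.of (b, t)) *
                FreeGroup.of (b, u) *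
                (FreeGroup.of (b, t) * FreeGroup.of (!b, -t⁻¹) * FreeGroup.of (b, t))⁻¹ *
                (FreeGroup.of (!b, -(t⁻¹ ^ 2 * u)))⁻¹}), FreeGroup.lift (genF m) r = 1 := by
  rintro r (⟨b, t, u, rfl⟩ | ⟨b, t, u, ht, rfl⟩)
  · simp only [map_mul, map_inv, FreeGroup.lift_apply_of]
    cases b
    · rw [genF_false, genF_false, genF_false]
      apply Subtype.ext
      show yE m t * yE m u * (yE m (t + u))⁻¹ = 1
      rw [yE_add]; group
    · rw [genF_true, genF_true, genF_true]
      apply Subtype.ext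
      show xE m t * xE m u * (xE m (t + u))⁻¹ = 1
      rw [xE_add]; group
  · simp only [map_mul, map_inv, FreeGroup.lift_apply_of]
    cases b
    · simp only [Bool.not_false]
      rw [genF_false, genF_false, genF_true, genF_true]
      apply Subtype.ext
      show (yE m t * xE m (-t⁻¹) * yE m t) * yE m u * (yE m t * xE m (-t⁻¹) * yE m t)⁻¹
        * (xE m (-(t⁻¹ ^ 2 * u)))⁻¹ = 1
      have := steinberg_y m hq t u ht
      unfold wE' at this
      rw [this, mul_inv_cancel]
    · simp only [Bool.not_true]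
      rw [genF_false, genF_false, genF_true, genF_true]
      apply Subtype.ext
      show (xE m t * yE m (-t⁻¹) * xE m t) * xE m u * (xE m t * yE m (-t⁻¹) * xE m t)⁻¹
        * (yE m (-(t⁻¹ ^ 2 * u)))⁻¹ = 1
      have := steinberg_x m hq t u ht
      unfold wE at this
      rw [this, mul_inv_cancel]

/-- the homomorphism from `SL₂(K)` -/
theorem exists_hom [Fintype K] (hq : ∀ x : K, x ^ 3 ^ (2 * m + 1) = x) :
    ∃ Φ : Matrix.SpecialLinearGroup (Fin 2) K →* ↥(twistedG2 K (3 ^ m)),
      (∀ t : K, ((Φ (uS t) : ↥(twistedG2 K (3 ^ m))) : GL chevG2.Idx K) = xE m t) ∧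
      (∀ t : K, ((Φ (lS t) : ↥(twistedG2 K (3 ^ m))) : GL chevG2.Idx K) = yE m t) := by
  obtain ⟨e, he1, he2⟩ := Cfsg.Agent.S2426.result (K := K)
  refine ⟨(PresentedGroup.toGroup (genF_rels m hq)).comp e.symm.toMonoidHom, ?_, ?_⟩
  · intro t
    have h1 : e (PresentedGroup.of (true, t)) = uS t := by
      apply Subtype.ext
      rw [he1]
      rfl
    have h2 : e.symm (uS t) = PresentedGroup.of (true, t) := by
      rw [← h1, e.symm_apply_apply]
    show ((PresentedGroup.toGroup (genF_rels m hq) (e.symm (uS t)) : ↥(twistedG2 K (3 ^ m))) :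
      GL chevG2.Idx K) = _
    rw [h2, PresentedGroup.toGroup.of, genF_true]
  · intro t
    have h1 : e (PresentedGroup.of (false, t)) = lS t := by
      apply Subtype.ext
      rw [he2]
      rfl
    have h2 : e.symm (lS t) = PresentedGroup.of (false, t) := by
      rw [← h1, e.symm_apply_apply]
    show ((PresentedGroup.toGroup (genF_rels m hq) (e.symm (lS t)) : ↥(twistedG2 K (3 ^ m))) :
      GL chevG2.Idx K) = _
    rw [h2, PresentedGroup.toGroup.of, genF_false]

end Cfsg.Agent.Lib.Helper5.ReeCent
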