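import Mathlib
import Cfsg.Prelude.Def_ChevStructure
import Cfsg.Prelude.Def_LieTwisted
import Cfsg.Agent.Lib.Helper5.ReeCent.Hom

set_option autoImplicit false

/-!
The kernel of the homomorphism `SL₂(K) → ²G₂(K)` is the centre.
-/

namespace Cfsg.Agent.Lib.Helper5.ReeCent

open Cfsg Cfsg.Lie Cfsg.Agent.Lib.Helper5.ChevSym Cfsg.Agent.Lib.Helper5.ChevSymP
  Cfsg.Agent.Lib.Helper5.ChevStruct Cfsg.Agent.Lib.Helper5.Ree Cfsg.Agent.Lib.Helper5.PSL2Solv

variable {K : Type*} [Field K] [CharP K 3] (m : ℕ)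

/-- the monomial element `(0, t; -t⁻¹, 0)` -/
def wS (t : K) (ht : t ≠ 0) : Matrix.SpecialLinearGroup (Fin 2) K :=
  mk2 0 t (-t⁻¹) 0 (by rw [mul_neg, sub_neg_eq_add, zero_mul, zero_add, mul_inv_cancel₀ ht])

/-- the diagonal element -/
def dS (t : K) (ht : t ≠ 0) : Matrix.SpecialLinearGroup (Fin 2) K :=
  mk2 t 0 0 t⁻¹ (by rw [mul_zero, sub_zero, mul_inv_cancel₀ ht])

omit [CharP K 3] in
theorem wS_eq (t : K) (ht : t ≠ 0) : wS t ht = uS t * lS (-t⁻¹) * uS t := by
  unfold wS uS lS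
  rw [mk2_mul, mk2_mul]
  refine mk2_inj.2 ⟨?_, ?_, ?_, ?_⟩ <;> field_simp <;> ring

omit [CharP K 3] in
theorem dS_eq (t : K) (ht : t ≠ 0) : dS t ht = wS t ht * (wS 1 one_ne_zero)⁻¹ := by
  unfold wS dS
  rw [mk2_inv, mk2_mul]
  refine mk2_inj.2 ⟨?_, ?_, ?_, ?_⟩ <;> simp

omit [CharP K 3] in
theorem mk2_upper (p q s : K) (h : p * s - q * 0 = 1) :
    ∃ hp : p ≠ 0, mk2 p q 0 s h = dS p hp * uS (q / p) := by
  have hp : p ≠ 0 := by
    rintro rfl
    simp at h
  refine ⟨hp, ?_⟩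
  unfold dS uS
  rw [mk2_mul]
  have hs : s = p⁻¹ := by
    field_simp
    linear_combination h
  refine mk2_inj.2 ⟨by ring, ?_, by ring, ?_⟩
  · rw [zero_mul, add_zero, mul_div_cancel₀ q hp]
  · rw [hs]; ring

omit [CharP K 3] in
theorem mk2_lower (p q r s : K) (h : p * s - q * r = 1) (hr : r ≠ 0) :
    mk2 p q r s h = uS (p / r) * wS (-r⁻¹) (neg_ne_zero.2 (inv_ne_zero hr)) * uS (s / r) := by
  unfold wS uS
  rw [mk2_mul, mk2_mul]
  refine mk2_inj.2 ⟨?_, ?_, ?_, ?_⟩
  · field_simp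
    ring
  · field_simp
    linear_combination (-1 : K) * h
  · field_simp
    ring
  · field_simp
    ring

section hom

variable [Fintype K] (hq : ∀ x : K, x ^ 3 ^ (2 * m + 1) = x)
  (Φ : Matrix.SpecialLinearGroup (Fin 2) K →* ↥(twistedG2 K (3 ^ m)))
  (hu : ∀ t : K, ((Φ (uS t) : ↥(twistedG2 K (3 ^ m))) : GL chevG2.Idx K) = xE m t)
  (hl : ∀ t : K, ((Φ (lS t) : ↥(twistedG2 K (3 ^ m))) : GL chevG2.Idx K) = yE m t)

omit [Fintype K] in
include hu hl in
theorem hom_wS (t : K) (ht : t ≠ 0) :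
    ((Φ (wS t ht) : ↥(twistedG2 K (3 ^ m))) : GL chevG2.Idx K) = wE m t := by
  rw [wS_eq, map_mul, map_mul, Subgroup.coe_mul, Subgroup.coe_mul, hu, hl]
  rfl

include hq hu hl in
theorem hom_dS (t : K) (ht : t ≠ 0) :
    ((Φ (dS t ht) : ↥(twistedG2 K (3 ^ m))) : GL chevG2.Idx K) = hz m (tauU m (Units.mk0 t ht)) := by
  rw [dS_eq, map_mul, map_inv, Subgroup.coe_mul, Subgroup.coe_inv, hom_wS m Φ hu hl,
    hom_wS m Φ hu hl, wE_one]
  have := wE_eq_hz m hq (Units.mk0 t ht)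
  rw [Units.val_mk0] at this
  rw [this, mul_assoc, mul_inv_cancel, mul_one]

include hq hu hl in
/-- elements outside the Borel subgroup of `SL₂` are mapped outside the Borel subgroup -/
theorem hom_lower_not_borel (p q r s : K) (h : p * s - q * r = 1) (hr : r ≠ 0) :
    ((Φ (mk2 p q r s h) : ↥(twistedG2 K (3 ^ m))) : GL chevG2.Idx K) ∉ chevG2.borelSubgroup K := by
  intro hB
  rw [mk2_lower p q r s h hr, map_mul, map_mul, Subgroup.coe_mul, Subgroup.coe_mul, hu, hu,
    hom_wS m Φ hu hl] at hB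
  have e := wE_eq_hz m hq (Units.mk0 (-r⁻¹) (neg_ne_zero.2 (inv_ne_zero hr)))
  rw [Units.val_mk0] at e
  rw [e] at hB
  apply n0_not_mem_borel (K := K)
  rw [← nE_eq_n0 m]
  have hx : ∀ t : K, xE m t ∈ chevG2.borelSubgroup K := fun t => by
    rw [xE_eq_al]
    exact pos_le_borel chevG2 (al_mem_pos m _ _ _)
  have hh : ∀ z : Kˣ, hz m z ∈ chevG2.borelSubgroup K := fun z =>
    diagonal_le_borel chevG2 (hz_mem_diag m z)
  set z := tauU m (Units.mk0 (-r⁻¹) (neg_ne_zero.2 (inv_ne_zero hr))) with hzdef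
  have e2 : nE (K := K) m = (hz m z)⁻¹ * (xE m (p / r))⁻¹
      * (xE m (p / r) * (hz m z * nE m) * xE m (s / r)) * (xE m (s / r))⁻¹ := by group
  rw [e2]
  exact mul_mem (mul_mem (mul_mem (inv_mem (hh z)) (inv_mem (hx _))) hB) (inv_mem (hx _))

include hq hu hl in
/-- the elements mapped into the torus -/
theorem hom_eq_hz (g : Matrix.SpecialLinearGroup (Fin 2) K) (z : Kˣ)
    (hg : ((Φ g : ↥(twistedG2 K (3 ^ m))) : GL chevG2.Idx K) = hz m z) :
    ∃ (p : K) (hp : p ≠ 0), g = dS p hp ∧ tauU m (Units.mk0 p hp) = z := by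
  obtain ⟨p, q, r, s, h, rfl⟩ := exists_mk2 g
  by_cases hr : r = 0
  · subst hr
    obtain ⟨hp, e⟩ := mk2_upper p q s h
    refine ⟨p, hp, ?_, ?_⟩
    all_goals
      rw [e, map_mul, Subgroup.coe_mul, hom_dS m hq Φ hu hl, hu] at hg
      have h1 : xE m (q / p) = (hz m (tauU m (Units.mk0 p hp)))⁻¹ * hz m z := by
        rw [← hg]; group
      have h2 : xE m (q / p) ∈ chevG2.posUnipotent K ⊓ chevG2.diagonalSubgroup K := by
        refine Subgroup.mem_inf.2 ⟨?_, ?_⟩
        · rw [xE_eq_al]; exact al_mem_pos m _ _ _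
        · rw [h1]; exact mul_mem (inv_mem (hz_mem_diag m _)) (hz_mem_diag m _)
      rw [pos_inf_diagonal chevG2 hG2, Subgroup.mem_bot, xE_eq_al, al_eq_one_iff] at h2
      have hq0 : q = 0 := by
        have := h2.2.1
        rcases div_eq_zero_iff.1 this with h | h
        · exact h
        · exact absurd h hp
    · rw [e, h2.2.1]
      unfold uS
      rw [← mk2_one, mul_one]
    · have h3 : xE m (q / p) = 1 := by rw [xE_eq_al, al_eq_one_iff]; exact h2
      rw [h3, mul_one] at hg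
      exact hz_injective m hg
  · exfalso
    apply hom_lower_not_borel m hq Φ hu hl p q r s h hr
    rw [hg]
    exact diagonal_le_borel chevG2 (hz_mem_diag m z)

omit [CharP K 3] [Fintype K] in
theorem tauU_eq_one_iff (hq : ∀ x : K, x ^ 3 ^ (2 * m + 1) = x) (p : K) (hp : p ≠ 0)
    (h : tauU m (Units.mk0 p hp) = 1) : p = 1 ∨ p = -1 := by
  have h1 := congrArg (fun u : Kˣ => (u : K)) h
  simp only [tauU_val, Units.val_mk0, Units.val_one] at h1
  -- p * p^(3^(m+1)) = 1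
  have h2 : p ^ 3 ^ (m + 1) = p⁻¹ := eq_inv_of_mul_eq_one_right h1
  have h3 : (p ^ 3 ^ (m + 1)) ^ 3 ^ (m + 1) = p ^ 3 := by
    rw [← pow_mul, ← pow_add]
    have : m + 1 + (m + 1) = (2 * m + 1) + 1 := by ring
    rw [this, pow_succ, pow_mul, hq]
  rw [h2, inv_pow, h2, inv_inv] at h3
  have h4 : p * (p - 1) * (p + 1) = 0 := by linear_combination -h3
  rcases mul_eq_zero.1 h4 with h5 | h5
  · rcases mul_eq_zero.1 h5 with h6 | h6
    · exact absurd h6 hp
    · left; linear_combination h6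
  · right; linear_combination h5

omit [CharP K 3] [Fintype K] in
theorem tauU_of_sq_eq_one (p : K) (hp : p ≠ 0) (h : p = 1 ∨ p = -1) :
    tauU m (Units.mk0 p hp) = 1 := by
  apply Units.ext
  rw [tauU_val, Units.val_mk0, Units.val_one]
  rcases h with rfl | rfl
  · simp
  · have : Odd (3 ^ (m + 1)) := Odd.pow (by decide)
    rw [this.neg_one_pow]; ring

include hq hu hl in
theorem hom_ker_le : Φ.ker ≤ Subgroup.center (Matrix.SpecialLinearGroup (Fin 2) K) := by
  intro g hg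
  rw [MonoidHom.mem_ker] at hg
  have h1 : ((Φ g : ↥(twistedG2 K (3 ^ m))) : GL chevG2.Idx K) = hz m 1 := by
    rw [hg, map_one]; rfl
  obtain ⟨p, hp, rfl, h2⟩ := hom_eq_hz m hq Φ hu hl g 1 h1
  rw [Matrix.SpecialLinearGroup.mem_center_iff]
  rcases tauU_eq_one_iff m hq p hp h2 with rfl | rfl
  · refine ⟨1, one_pow _, ?_⟩
    ext i j
    fin_cases i <;> fin_cases j <;> simp [dS, mk2]
  · refine ⟨-1, by simp, ?_⟩
    ext i j
    fin_cases i <;> fin_cases j <;> simp [dS, mk2, inv_neg]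

include hq hu hl in
theorem center_le_hom_ker : Subgroup.center (Matrix.SpecialLinearGroup (Fin 2) K) ≤ Φ.ker := by
  intro g hg
  rw [Matrix.SpecialLinearGroup.mem_center_iff] at hg
  obtain ⟨r, hr, e⟩ := hg
  rw [Fintype.card_fin] at hr
  have hr0 : r ≠ 0 := by
    rintro rfl
    simp at hr
  have hr' : r = 1 ∨ r = -1 := by
    have : (r - 1) * (r + 1) = 0 := by linear_combination hr
    rcases mul_eq_zero.1 this with h | h
    · left; linear_combination h
    · right; linear_combination h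
  have e2 : g = dS r hr0 := by
    apply Subtype.ext
    rw [← e]
    ext i j
    rcases hr' with rfl | rfl <;> fin_cases i <;> fin_cases j <;> simp [dS, mk2, inv_neg]
  rw [MonoidHom.mem_ker]
  apply Subtype.ext
  rw [e2, hom_dS m hq Φ hu hl, tauU_of_sq_eq_one m r hr0 hr', map_one]
  rfl

include hq hu hl in
/-- the involution `h(-1)` is not in the image -/
theorem hz_neg_one_not_mem_range (g : Matrix.SpecialLinearGroup (Fin 2) K) :
    ((Φ g : ↥(twistedG2 K (3 ^ m))) : GL chevG2.Idx K) ≠ hz m (-1) := by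
  intro h
  obtain ⟨p, hp, rfl, h2⟩ := hom_eq_hz m hq Φ hu hl g (-1) h
  -- p * p^(3^(m+1)) = -1
  have h1 := congrArg (fun u : Kˣ => (u : K)) h2
  simp only [tauU_val, Units.val_mk0, Units.val_neg, Units.val_one] at h1
  have h2' : p ^ 3 ^ (m + 1) = -p⁻¹ := by
    field_simp
    linear_combination h1
  have h3 : (p ^ 3 ^ (m + 1)) ^ 3 ^ (m + 1) = p ^ 3 := by
    rw [← pow_mul, ← pow_add]
    have : m + 1 + (m + 1) = (2 * m + 1) + 1 := by ring
    rw [this, pow_succ, pow_mul, hq]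
  have hodd : Odd (3 ^ (m + 1)) := Odd.pow (by decide)
  rw [h2', hodd.neg_pow, inv_pow, h2', inv_neg, neg_neg, inv_inv] at h3
  have h4 : p * (p - 1) * (p + 1) = 0 := by linear_combination -h3
  have h5 : p = 1 ∨ p = -1 := by
    rcases mul_eq_zero.1 h4 with h5 | h5
    · rcases mul_eq_zero.1 h5 with h6 | h6
      · exact absurd h6 hp
      · left; linear_combination h6
    · right; linear_combination h5
  have h6 := tauU_of_sq_eq_one m p hp h5
  rw [h6] at h2
  have h7 := congrArg (fun u : Kˣ => (u : K)) h2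
  simp only [Units.val_one, Units.val_neg] at h7
  have h8 : (2 : K) = 0 := by linear_combination h7
  have h9 : (3 : K) = 0 := three_zero'
  have : (1 : K) = 0 := by linear_combination h9 - h8
  exact one_ne_zero this

end hom

end Cfsg.Agent.Lib.Helper5.ReeCent
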