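import Mathlib
import Cfsg.Prelude.Def_ChevStructure
import Cfsg.Prelude.Def_LieTwisted
import Cfsg.Agent.Lib.Helper5.ReeCent.Ker

set_option autoImplicit false

/-!
The centraliser of the involution `h(-1)` of the Ree group.
-/

namespace Cfsg.Agent.Lib.Helper5.ReeCent

open Cfsg Cfsg.Lie Cfsg.Agent.Lib.Helper5.ChevSym Cfsg.Agent.Lib.Helper5.ChevSymP
  Cfsg.Agent.Lib.Helper5.ChevStruct Cfsg.Agent.Lib.Helper5.Ree Cfsg.Agent.Lib.Helper5.PSL2Solv

variable {K : Type*} [Field K] [CharP K 3] (m : ℕ)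

theorem chi10_neg_one : chi chevG2 (hzF m (-1 : Kˣ)) 10 = 1 := by
  rw [chi10_eq, ps_apply, Units.val_neg, Units.val_one]
  have : Odd (3 ^ (m + 1)) := Odd.pow (by decide)
  rw [this.neg_one_pow, inv_neg, inv_one, neg_mul_neg, one_mul]

theorem chi6_neg_one : chi chevG2 (hzF m (-1 : Kˣ)) 6 = -1 := by
  rw [chi_six, hzF_zero, hzF_one, ph_apply, Units.val_neg, Units.val_one]
  have : Odd (3 ^ m) := Odd.pow (by decide)
  rw [this.neg_one_pow]
  norm_num [zpow_neg]

variable [Fintype K] (hq : ∀ x : K, x ^ 3 ^ (2 * m + 1) = x)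

include hq in
theorem hzm1_conj_al (t u v : K) :
    hz m (-1) * al m t u v * (hz m (-1))⁻¹ = al m (-t) u (-v) := by
  rw [hz_conj_al m hq, chi6_neg_one, chi10_neg_one, Units.val_neg, Units.val_one]
  simp

include hq in
theorem hzm1_comm_xE (u : K) : Commute (hz m (-1)) (xE m u) := by
  have := hz_conj_xE m hq (-1) u
  rw [chi10_neg_one, one_mul] at this
  show hz m (-1) * xE m u = xE m u * hz m (-1)
  calc hz m (-1) * xE m u = hz m (-1) * xE m u * (hz m (-1))⁻¹ * hz m (-1) := by group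
    _ = _ := by rw [this]

omit [Fintype K] in
include hq in
theorem hzm1_comm_yE (u : K) : Commute (hz m (-1)) (yE m u) := by
  have := hz_conj_yE m hq (-1) u
  rw [chi10_neg_one, inv_one, one_mul] at this
  show hz m (-1) * yE m u = yE m u * hz m (-1)
  calc hz m (-1) * yE m u = hz m (-1) * yE m u * (hz m (-1))⁻¹ * hz m (-1) := by group
    _ = _ := by rw [this]

include hq in
theorem hzm1_comm_nE : Commute (hz m (-1)) (nE (K := K) m) := by
  unfold nE
  exact ((hzm1_comm_xE m hq _).mul_right (hzm1_comm_yE m hq _)).mul_right (hzm1_comm_xE m hq _)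

omit [Fintype K] in
theorem hz_comm (z z' : Kˣ) : Commute (hz m z) (hz m z') := by
  show hz m z * hz m z' = hz m z' * hz m z
  rw [← map_mul, ← map_mul, mul_comm]

omit [Fintype K] in
theorem hzm1_sq : hz (K := K) m (-1) * hz m (-1) = 1 := by
  rw [← map_mul, neg_mul_neg, one_mul, map_one]

omit [Fintype K] in
theorem hzm1_inv : (hz (K := K) m (-1))⁻¹ = hz m (-1) :=
  inv_eq_of_mul_eq_one_right (hzm1_sq m)

include hq in
/-- the centraliser of `h(-1)` in `U¹` -/
theorem cent_pos (u : GL chevG2.Idx K) (hu : u ∈ chevG2.posUnipotent K ⊓ fixG m)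
    (hc : Commute (hz m (-1)) u) : ∃ x : K, u = xE m x := by
  obtain ⟨t, x, v, e⟩ := (pos_fix_iff m hq u).1 hu
  have e' : u = al m t x v := e
  have h1 : hz m (-1) * u * (hz m (-1))⁻¹ = u := by
    rw [hc.eq, mul_assoc, mul_inv_cancel, mul_one]
  rw [e', hzm1_conj_al m hq] at h1
  obtain ⟨ht, -, hv⟩ := al_injective m _ _ _ _ _ _ h1
  have h3 : (3 : K) = 0 := three_zero'
  have ht0 : t = 0 := by linear_combination ht + t * h3
  have hv0 : v = 0 := by linear_combination hv + v * h3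
  exact ⟨x, by rw [e', ht0, hv0, xE_eq_al]⟩

omit [CharP K 3] [Fintype K] in
include hq in
/-- every unit is `± τ(y)` -/
theorem exists_tau_decomp (z : Kˣ) :
    ∃ y ε : Kˣ, (ε = 1 ∨ ε = -1) ∧ z = tauU m y * ε := by
  obtain ⟨k, d, hk, hd, hkd⟩ := arith m
  have hz2d : z ^ (2 * d) = 1 := by
    have h1 : z ^ (2 * d + 1) = z := by
      apply Units.ext
      rw [Units.val_pow_eq_pow_val, ← hd, hq]
    rw [pow_succ] at h1
    exact mul_eq_right.1 h1
  set y : Kˣ := z ^ k with hy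
  set ε : Kˣ := z ^ (3 * d) with hε
  have hε2 : ε ^ 2 = 1 := by
    rw [hε, ← pow_mul]
    have : 3 * d * 2 = 2 * d * 3 := by ring
    rw [this, pow_mul, hz2d, one_pow]
  have hw : tauU m y = z * ε := by
    unfold tauU
    rw [hk, ← pow_succ', hy, hε, ← pow_mul]
    have : k * (2 * k + 1 + 1) = 3 * d + 1 := by rw [← hkd]
    rw [this, pow_succ', mul_comm]
  have hcases : ε = 1 ∨ ε = -1 := by
    have h1 : ((ε : K)) ^ 2 = 1 := by
      rw [← Units.val_pow_eq_pow_val, hε2, Units.val_one]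
    rcases sq_eq_one_iff.1 h1 with h | h
    · exact Or.inl (Units.ext h)
    · exact Or.inr (Units.ext (by rw [h, Units.val_neg, Units.val_one]))
  refine ⟨y, ε, hcases, ?_⟩
  rw [hw, mul_assoc, ← sq, hε2, mul_one]

section hom

variable (Φ : Matrix.SpecialLinearGroup (Fin 2) K →* ↥(twistedG2 K (3 ^ m)))
  (hu : ∀ t : K, ((Φ (uS t) : ↥(twistedG2 K (3 ^ m))) : GL chevG2.Idx K) = xE m t)
  (hl : ∀ t : K, ((Φ (lS t) : ↥(twistedG2 K (3 ^ m))) : GL chevG2.Idx K) = yE m t)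

include hq hu hl in
/-- the image commutes with `h(-1)` -/
theorem hom_comm (s : Matrix.SpecialLinearGroup (Fin 2) K) :
    Commute (hz m (-1)) ((Φ s : ↥(twistedG2 K (3 ^ m))) : GL chevG2.Idx K) := by
  obtain ⟨p, q, r, t, h, rfl⟩ := exists_mk2 s
  by_cases hr : r = 0
  · subst hr
    obtain ⟨hp, e⟩ := mk2_upper p q t h
    rw [e, map_mul, Subgroup.coe_mul, hom_dS m hq Φ hu hl, hu]
    exact (hz_comm m _ _).mul_right (hzm1_comm_xE m hq _)
  · rw [mk2_lower p q r t h hr, map_mul, map_mul, Subgroup.coe_mul, Subgroup.coe_mul, hu, hu,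
      hom_wS m Φ hu hl]
    unfold wE
    exact ((hzm1_comm_xE m hq _).mul_right (((hzm1_comm_xE m hq _).mul_right
      (hzm1_comm_yE m hq _)).mul_right (hzm1_comm_xE m hq _))).mul_right (hzm1_comm_xE m hq _)

include hq hu hl in
theorem cent_diag (z : Kˣ) : ∃ (ε : ℕ) (s : Matrix.SpecialLinearGroup (Fin 2) K),
    hz m z = (hz m (-1)) ^ ε * ((Φ s : ↥(twistedG2 K (3 ^ m))) : GL chevG2.Idx K) := by
  obtain ⟨y, ε, hε, rfl⟩ := exists_tau_decomp m hq z
  have e : tauU m y = tauU m (Units.mk0 (y : K) y.ne_zero) := by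
    congr 1
    exact Units.ext rfl
  rcases hε with rfl | rfl
  · refine ⟨0, dS (y : K) y.ne_zero, ?_⟩
    rw [pow_zero, one_mul, mul_one, hom_dS m hq Φ hu hl, ← e]
  · refine ⟨1, dS (y : K) y.ne_zero, ?_⟩
    rw [pow_one, hom_dS m hq Φ hu hl, ← e, ← map_mul, mul_comm]

include hq hu hl in
theorem cent_borel (b : GL chevG2.Idx K) (hb : b ∈ chevG2.borelSubgroup K ⊓ fixG m)
    (hc : Commute (hz m (-1)) b) : ∃ (ε : ℕ) (s : Matrix.SpecialLinearGroup (Fin 2) K),
    b = (hz m (-1)) ^ ε * ((Φ s : ↥(twistedG2 K (3 ^ m))) : GL chevG2.Idx K) := by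
  obtain ⟨u, huU, h, hh, rfl⟩ := borel_fix m b (Subgroup.mem_inf.1 hb).1 (Subgroup.mem_inf.1 hb).2
  obtain ⟨z, rfl⟩ := (diag_fix_iff m hq h).1 hh
  have hcu : Commute (hz m (-1)) u := by
    have h1 : u = u * hz m z * (hz m z)⁻¹ := by group
    rw [h1]
    exact hc.mul_right (hz_comm m _ _).inv_right
  obtain ⟨x, rfl⟩ := cent_pos m hq u huU hcu
  obtain ⟨ε, s, e⟩ := cent_diag m hq Φ hu hl z
  refine ⟨ε, uS x * s, ?_⟩
  rw [e, map_mul, Subgroup.coe_mul, hu]
  have := ((hzm1_comm_xE m hq x).pow_left ε).eq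
  rw [← mul_assoc, ← mul_assoc, this]

include hq hu hl in
/-- the centraliser of `h(-1)` is generated by `h(-1)` and the image of `SL₂` -/
theorem cent_all (g : GL chevG2.Idx K) (hg : g ∈ fixG m) (hc : Commute (hz m (-1)) g) :
    ∃ (ε : ℕ) (s : Matrix.SpecialLinearGroup (Fin 2) K),
      g = (hz m (-1)) ^ ε * ((Φ s : ↥(twistedG2 K (3 ^ m))) : GL chevG2.Idx K) := by
  have hn0 := n0_mem_fixG (K := K) m hq
  have haf : hz m (-1 : Kˣ) ∈ fixG m := hz_mem_fixG m hq _
  have had : hz m (-1 : Kˣ) ∈ chevG2.diagonalSubgroup K := hz_mem_diag m _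
  rcases cell_fix m hn0.2 g hg with h | ⟨b, hb, v, hv, rfl⟩
  · exact cent_borel m hq Φ hu hl g (Subgroup.mem_inf.2 ⟨h, hg⟩) hc
  · obtain ⟨a, ha⟩ : ∃ a : GL chevG2.Idx K, a = hz (K := K) m (-1) := ⟨_, rfl⟩
    rw [← ha] at haf had hc
    have hcn : Commute a (n0 K) := by
      rw [← nE_eq_n0 m, ha]
      exact hzm1_comm_nE m hq
    have e1 : a * b * a⁻¹ * n0 K * (a * v * a⁻¹) = b * n0 K * v := by
      have : a * b * a⁻¹ * n0 K * (a * v * a⁻¹) = a * b * (a⁻¹ * n0 K * a) * v * a⁻¹ := by group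
      rw [this]
      have h2 : a⁻¹ * n0 K * a = n0 K := by
        rw [mul_assoc, ← hcn.eq, ← mul_assoc, inv_mul_cancel, one_mul]
      rw [h2]
      have h3 : a * b * n0 K * v * a⁻¹ = a * (b * n0 K * v) * a⁻¹ := by group
      rw [h3, hc.eq, mul_assoc, mul_inv_cancel, mul_one]
    have huneg : ∀ v ∈ chevG2.posUnipotent K ⊓ fixG m, v ∈ unegOf chevG2 K (n0 K) := fun v hv =>
      unegSub_le_unegOf chevG2 hG2 w0 w0_wd (pos_le_unegSub_w0 (Subgroup.mem_inf.1 hv).1)
    have hav : a * v * a⁻¹ ∈ chevG2.posUnipotent K ⊓ fixG m := by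
      refine Subgroup.mem_inf.2 ⟨?_, mul_mem (mul_mem haf (Subgroup.mem_inf.1 hv).2) (inv_mem haf)⟩
      have := diagonal_le_normalizer_pos chevG2 hG2 had
      exact (Subgroup.mem_normalizer_iff.1 this v).1 (Subgroup.mem_inf.1 hv).1
    have hab : a * b * a⁻¹ ∈ chevG2.borelSubgroup K :=
      mul_mem (mul_mem (diagonal_le_borel chevG2 had) (Subgroup.mem_inf.1 hb).1)
        (inv_mem (diagonal_le_borel chevG2 had))
    have huq := bruhat_unique chevG2 hG2 _ _ _ _ _ _ hab (Subgroup.mem_inf.1 hb).1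
      (n0_mem_mono (K := K)) (n0_mem_mono (K := K)) (huneg _ hav) (huneg v hv) e1
    obtain ⟨hbb, hvv⟩ := huq.2 rfl
    have hcb : Commute a b := by
      show a * b = b * a
      calc a * b = a * b * a⁻¹ * a := by group
        _ = b * a := by rw [hbb]
    have hcv : Commute a v := by
      show a * v = v * a
      calc a * v = a * v * a⁻¹ * a := by group
        _ = v * a := by rw [hvv]
    rw [ha] at hcb hcv
    obtain ⟨ε, s, hbs⟩ := cent_borel m hq Φ hu hl b hb hcb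
    obtain ⟨x, hvx⟩ := cent_pos m hq v hv hcv
    refine ⟨ε, s * wS 1 one_ne_zero * uS x, ?_⟩
    rw [map_mul, map_mul, Subgroup.coe_mul, Subgroup.coe_mul, hu, hom_wS m Φ hu hl, wE_one,
      nE_eq_n0, hbs, hvx]
    simp only [mul_assoc]

end hom

end Cfsg.Agent.Lib.Helper5.ReeCent
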