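import Mathlib
import Cfsg.Prelude.Def_ChevStructure
import Cfsg.Prelude.Def_LieTwisted
import Cfsg.Agent.Lib.Helper5.ReeCent.Cent

set_option autoImplicit false

/-!
The centraliser of the involution `h(-1)` of the Ree group is `Z₂ × PSL₂(K)`.
-/

namespace Cfsg.Agent.Lib.Helper5.ReeCent

open Cfsg Cfsg.Lie Cfsg.Agent.Lib.Helper5.ChevSym Cfsg.Agent.Lib.Helper5.ChevSymP
  Cfsg.Agent.Lib.Helper5.ChevStruct Cfsg.Agent.Lib.Helper5.Ree Cfsg.Agent.Lib.Helper5.PSL2Solv

variable {K : Type*} [Field K] [CharP K 3] (m : ℕ) [Fintype K]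
  (hq : ∀ x : K, x ^ 3 ^ (2 * m + 1) = x)

/-- the involution `h(-1)` as an element of the Ree group -/
noncomputable def aG : ↥(twistedG2 K (3 ^ m)) := ⟨hz m (-1), hz_mem_twisted m hq (-1)⟩

theorem aG_sq : aG m hq * aG m hq = 1 := by
  apply Subtype.ext
  exact hzm1_sq m

theorem aG_ne_one : aG m hq ≠ 1 := by
  intro h
  have h1 : hz (K := K) m (-1) = hz m 1 := by
    rw [map_one]
    exact congrArg Subtype.val h
  have h2 := hz_injective m h1
  have h3 := congrArg (fun u : Kˣ => (u : K)) h2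
  simp only [Units.val_neg, Units.val_one] at h3
  have h8 : (2 : K) = 0 := by linear_combination -h3
  have h9 : (3 : K) = 0 := three_zero'
  have : (1 : K) = 0 := by linear_combination h9 - h8
  exact one_ne_zero this

/-- the homomorphism `Z₂ → ²G₂` with image `⟨h(-1)⟩` -/
noncomputable def alphaHom : Multiplicative (ZMod 2) →* ↥(twistedG2 K (3 ^ m)) where
  toFun x := aG m hq ^ (Multiplicative.toAdd x).val
  map_one' := by
    show aG m hq ^ (0 : ZMod 2).val = 1
    rw [ZMod.val_zero, pow_zero]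
  map_mul' x y := by
    show aG m hq ^ (Multiplicative.toAdd x + Multiplicative.toAdd y).val = _
    have h2 : aG m hq ^ 2 = 1 := by rw [pow_two]; exact aG_sq m hq
    rw [ZMod.val_add, ← pow_eq_pow_mod _ h2, pow_add]

theorem alphaHom_zero : alphaHom m hq (Multiplicative.ofAdd (0 : ZMod 2)) = 1 := by
  show aG m hq ^ (0 : ZMod 2).val = 1
  rw [ZMod.val_zero, pow_zero]

theorem alphaHom_one : alphaHom m hq (Multiplicative.ofAdd (1 : ZMod 2)) = aG m hq := by
  show aG m hq ^ (1 : ZMod 2).val = _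
  rw [ZMod.val_one, pow_one]

theorem alphaHom_natCast (ε : ℕ) :
    alphaHom m hq (Multiplicative.ofAdd ((ε : ℕ) : ZMod 2)) = aG m hq ^ ε := by
  show aG m hq ^ ((ε : ℕ) : ZMod 2).val = _
  have h2 : aG m hq ^ 2 = 1 := by rw [pow_two]; exact aG_sq m hq
  rw [ZMod.val_natCast, ← pow_eq_pow_mod _ h2]

section hom

variable (Φ : Matrix.SpecialLinearGroup (Fin 2) K →* ↥(twistedG2 K (3 ^ m)))
  (hu : ∀ t : K, ((Φ (uS t) : ↥(twistedG2 K (3 ^ m))) : GL chevG2.Idx K) = xE m t)
  (hl : ∀ t : K, ((Φ (lS t) : ↥(twistedG2 K (3 ^ m))) : GL chevG2.Idx K) = yE m t)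

include hu hl

/-- the induced homomorphism from `PSL₂(K)` -/
noncomputable def phiBar : Matrix.ProjectiveSpecialLinearGroup (Fin 2) K →* ↥(twistedG2 K (3 ^ m)) :=
  QuotientGroup.lift (Subgroup.center (Matrix.SpecialLinearGroup (Fin 2) K)) Φ
    (center_le_hom_ker m hq Φ hu hl)

theorem phiBar_mk (s : Matrix.SpecialLinearGroup (Fin 2) K) :
    phiBar m hq Φ hu hl (QuotientGroup.mk s) = Φ s := rfl

theorem phiBar_injective : Function.Injective (phiBar m hq Φ hu hl) := by
  rw [injective_iff_map_eq_one]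
  intro x hx
  induction x using QuotientGroup.induction_on with
  | H s =>
    rw [phiBar_mk] at hx
    rw [QuotientGroup.eq_one_iff]
    exact hom_ker_le m hq Φ hu hl hx

theorem aG_comm_hom (s : Matrix.SpecialLinearGroup (Fin 2) K) : Commute (aG m hq) (Φ s) := by
  show aG m hq * Φ s = Φ s * aG m hq
  apply Subtype.ext
  exact (hom_comm m hq Φ hu hl s).eq

theorem alphaHom_comm (x : Multiplicative (ZMod 2))
    (y : Matrix.ProjectiveSpecialLinearGroup (Fin 2) K) :
    Commute (alphaHom m hq x) (phiBar m hq Φ hu hl y) := by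
  induction y using QuotientGroup.induction_on with
  | H s =>
    rw [phiBar_mk]
    exact (aG_comm_hom m hq Φ hu hl s).pow_left _

/-- the homomorphism `Z₂ × PSL₂(K) → ²G₂(K)` -/
noncomputable def psiHom :
    Multiplicative (ZMod 2) × Matrix.ProjectiveSpecialLinearGroup (Fin 2) K →*
      ↥(twistedG2 K (3 ^ m)) :=
  MonoidHom.noncommCoprod (alphaHom m hq) (phiBar m hq Φ hu hl) (alphaHom_comm m hq Φ hu hl)

theorem psiHom_apply (x : Multiplicative (ZMod 2))
    (y : Matrix.ProjectiveSpecialLinearGroup (Fin 2) K) :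
    psiHom m hq Φ hu hl (x, y) = alphaHom m hq x * phiBar m hq Φ hu hl y := rfl

theorem psiHom_injective : Function.Injective (psiHom m hq Φ hu hl) := by
  rw [injective_iff_map_eq_one]
  rintro ⟨x, y⟩ h
  rw [psiHom_apply] at h
  have hx : x = Multiplicative.ofAdd (0 : ZMod 2) ∨ x = Multiplicative.ofAdd (1 : ZMod 2) := by
    have h01 : ∀ i : ZMod 2, i = 0 ∨ i = 1 := by decide
    rcases h01 (Multiplicative.toAdd x) with h | h
    · left; rw [← h]; rfl
    · right; rw [← h]; rfl
  rcases hx with rfl | rfl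
  · rw [alphaHom_zero, one_mul] at h
    have hy : y = 1 := by
      apply phiBar_injective m hq Φ hu hl
      rw [h, map_one]
    rw [hy]
    rfl
  · exfalso
    rw [alphaHom_one] at h
    induction y using QuotientGroup.induction_on with
    | H s =>
      rw [phiBar_mk] at h
      -- Φ s = aG⁻¹ = aG
      have h1 : Φ s = aG m hq := by
        have h2 : Φ s = (aG m hq)⁻¹ := eq_inv_of_mul_eq_one_right h
        rw [h2]
        exact inv_eq_of_mul_eq_one_right (aG_sq m hq)
      exact hz_neg_one_not_mem_range m hq Φ hu hl s (congrArg Subtype.val h1)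

theorem psiHom_range :
    (psiHom m hq Φ hu hl).range = Subgroup.centralizer {aG m hq} := by
  apply le_antisymm
  · rintro _ ⟨⟨x, y⟩, rfl⟩
    rw [Subgroup.mem_centralizer_iff]
    intro h hh
    rw [Set.mem_singleton_iff] at hh
    subst hh
    rw [psiHom_apply]
    induction y using QuotientGroup.induction_on with
    | H s =>
      rw [phiBar_mk]
      have h1 : Commute (aG m hq) (alphaHom m hq x) := by
        show Commute (aG m hq) (aG m hq ^ _)
        exact (Commute.refl _).pow_right _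
      exact (h1.mul_right (aG_comm_hom m hq Φ hu hl s)).eq
  · intro g hg
    rw [Subgroup.mem_centralizer_iff] at hg
    have hc := hg (aG m hq) (Set.mem_singleton _)
    have hc' : Commute (hz (K := K) m (-1)) (g : GL chevG2.Idx K) := by
      show hz (K := K) m (-1) * (g : GL chevG2.Idx K) = (g : GL chevG2.Idx K) * hz m (-1)
      exact congrArg Subtype.val hc
    obtain ⟨ε, s, e⟩ := cent_all m hq Φ hu hl (g : GL chevG2.Idx K) (twisted_le_fixG m hq g.2) hc'
    refine ⟨(Multiplicative.ofAdd ((ε : ℕ) : ZMod 2), QuotientGroup.mk s), ?_⟩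
    rw [psiHom_apply, alphaHom_natCast, phiBar_mk]
    apply Subtype.ext
    rw [e]
    rfl

/-- the centraliser of `h(-1)` in the Ree group -/
theorem centralizer_iso :
    Nonempty (↥(Subgroup.centralizer {aG m hq}) ≃*
      Multiplicative (ZMod 2) × Matrix.ProjectiveSpecialLinearGroup (Fin 2) K) := by
  have e1 := MonoidHom.ofInjective (psiHom_injective m hq Φ hu hl)
  have e2 := MulEquiv.subgroupCongr (psiHom_range m hq Φ hu hl)
  exact ⟨(e1.trans e2).symm⟩

end hom

end Cfsg.Agent.Lib.Helper5.ReeCent
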