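import Mathlib
import Cfsg.Prelude.Def_ChevStructure
import Cfsg.Prelude.Def_LieTwisted
import Cfsg.Agent.Lib.Helper5.ReeCent.Iso
import Cfsg.Agent.Lib.Helper5.PSL2Klein
import Cfsg.Agent.Lib.Helper5.Ree.Finite

set_option autoImplicit false

/-!
The Sylow 2-subgroups of the Ree groups are elementary abelian of order 8; the centraliser of an
involution of `H¹`.
-/

namespace Cfsg.Agent.Lib.Helper5.ReeCent

open Cfsg Cfsg.Lie Cfsg.Agent.Lib.Helper5.ChevSym Cfsg.Agent.Lib.Helper5.ChevSymP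
  Cfsg.Agent.Lib.Helper5.ChevStruct Cfsg.Agent.Lib.Helper5.Ree Cfsg.Agent.Lib.Helper5.PSL2Solv

theorem pow_mod_sixteen (m : ℕ) : 3 ^ (2 * m + 1) % 16 = 3 ∨ 3 ^ (2 * m + 1) % 16 = 11 := by
  have h9 : ∀ j : ℕ, 81 ^ j % 16 = 1 := by
    intro j
    rw [Nat.pow_mod]
    norm_num
  have e : 3 ^ (2 * m + 1) = 3 * 9 ^ m := by
    rw [pow_succ, pow_mul]; norm_num; ring
  rw [e]
  rcases Nat.even_or_odd' m with ⟨j, hj | hj⟩
  · left
    have : 9 ^ m = 81 ^ j := by rw [hj, pow_mul]; norm_num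
    rw [this, Nat.mul_mod, h9]
  · right
    have : 9 ^ m = 9 * 81 ^ j := by rw [hj, pow_succ, pow_mul]; norm_num; ring
    rw [this, Nat.mul_mod, Nat.mul_mod 9, h9]

/-- the `2`-part of the order of the Ree group is `8` -/
theorem order_mod_sixteen (q : ℕ) (hq : q % 16 = 3 ∨ q % 16 = 11) :
    (q ^ 3 * (q - 1) * (q ^ 3 + 1)) % 16 = 8 := by
  rcases hq with h | h
  · have h1 : q ^ 3 % 16 = 11 := by rw [Nat.pow_mod, h]
    have h2 : (q - 1) % 16 = 2 := by omega
    have h3 : (q ^ 3 + 1) % 16 = 12 := by omega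
    rw [Nat.mul_mod, Nat.mul_mod (q ^ 3), h1, h2, h3]
  · have h1 : q ^ 3 % 16 = 3 := by rw [Nat.pow_mod, h]
    have h2 : (q - 1) % 16 = 10 := by omega
    have h3 : (q ^ 3 + 1) % 16 = 4 := by omega
    rw [Nat.mul_mod, Nat.mul_mod (q ^ 3), h1, h2, h3]

theorem factorization_two_of_mod (N : ℕ) (h : N % 16 = 8) : N.factorization 2 = 3 := by
  obtain ⟨M, hM⟩ : ∃ M, N = 8 * M := ⟨N / 8, by omega⟩
  have hM2 : ¬ 2 ∣ M := by omega
  have hM0 : M ≠ 0 := by
    rintro rfl
    omega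
  rw [hM, Nat.factorization_mul (by norm_num) hM0]
  have h8 : (8 : ℕ).factorization 2 = 3 := by
    have : (8 : ℕ) = 2 ^ 3 := by norm_num
    rw [this, Nat.Prime.factorization_pow Nat.prime_two]
    simp
  have hmf : M.factorization 2 = 0 := Nat.factorization_eq_zero_of_not_dvd hM2
  simp [h8, hmf]

variable {K : Type*} [Field K] [CharP K 3] (m : ℕ) [Fintype K]
  (hK : Fintype.card K = 3 ^ (2 * m + 1))

include hK in
theorem card_twisted_factorization :
    (Nat.card ↥(twistedG2 K (3 ^ m))).factorization 2 = 3 := by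
  have hq := pow_card_eq hK
  rw [twisted_eq_fixG m hq, card_fixG m hq]
  apply factorization_two_of_mod
  apply order_mod_sixteen
  rw [hK]
  exact pow_mod_sixteen m

include hK in
theorem card_mod_eight : Fintype.card K % 8 = 3 := by
  have := pow_mod_sixteen m
  rw [hK]
  omega

section hom

variable (hq : ∀ x : K, x ^ 3 ^ (2 * m + 1) = x)
  (Φ : Matrix.SpecialLinearGroup (Fin 2) K →* ↥(twistedG2 K (3 ^ m)))
  (hu : ∀ t : K, ((Φ (uS t) : ↥(twistedG2 K (3 ^ m))) : GL chevG2.Idx K) = xE m t)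
  (hl : ∀ t : K, ((Φ (lS t) : ↥(twistedG2 K (3 ^ m))) : GL chevG2.Idx K) = yE m t)

include hK hq hu hl in
/-- an elementary abelian subgroup of order 8 -/
theorem exists_elementary_eight :
    ∃ E : Subgroup ↥(twistedG2 K (3 ^ m)), Nat.card E = 8 ∧ ∀ x ∈ E, x * x = 1 := by
  have P : Sylow 2 (Matrix.ProjectiveSpecialLinearGroup (Fin 2) K) := default
  have hP := Cfsg.Agent.Lib.Helper5.PSL2Klein.isKleinFour_sylow (F := K)
    (Or.inl (card_mod_eight m hK)) P
  let f : Multiplicative (ZMod 2) × ↥(P : Subgroup (Matrix.ProjectiveSpecialLinearGroup (Fin 2) K))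
      →* ↥(twistedG2 K (3 ^ m)) :=
    (psiHom m hq Φ hu hl).comp (MonoidHom.prodMap (MonoidHom.id _)
      (P : Subgroup (Matrix.ProjectiveSpecialLinearGroup (Fin 2) K)).subtype)
  have hf : Function.Injective f := by
    intro x y h
    have h1 := psiHom_injective m hq Φ hu hl h
    have h2 : x.1 = y.1 := by
      have := congrArg Prod.fst h1
      exact this
    have h3 : ((x.2 : ↥(P : Subgroup (Matrix.ProjectiveSpecialLinearGroup (Fin 2) K))) :
        Matrix.ProjectiveSpecialLinearGroup (Fin 2) K) = y.2 := by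
      have := congrArg Prod.snd h1
      exact this
    exact Prod.ext h2 (Subtype.ext h3)
  refine ⟨f.range, ?_, ?_⟩
  · rw [← Nat.card_congr (MonoidHom.ofInjective hf).toEquiv, Nat.card_prod, hP.card_four]
    have : Nat.card (Multiplicative (ZMod 2)) = 2 := by
      rw [Nat.card_eq_fintype_card, Fintype.card_multiplicative, ZMod.card]
    rw [this]
  · rintro _ ⟨⟨z, v⟩, rfl⟩
    rw [← map_mul]
    have hz : z * z = 1 := by
      revert z
      decide
    have hv : v * v = 1 := by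
      have := Monoid.pow_exponent_eq_one v
      rw [hP.exponent_two, pow_two] at this
      exact this
    rw [Prod.mk_mul_mk, hz, hv]
    exact map_one f

include hK hq hu hl in
theorem sylow_two (S : Sylow 2 ↥(twistedG2 K (3 ^ m))) :
    Nat.card S = 8 ∧ ∀ x ∈ S, x * x = 1 := by
  have hfac := card_twisted_factorization m hK
  have hc : ∀ T : Sylow 2 ↥(twistedG2 K (3 ^ m)), Nat.card T = 8 := by
    intro T
    rw [Sylow.card_eq_multiplicity, hfac]
    norm_num
  refine ⟨hc S, ?_⟩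
  obtain ⟨E, hE, hE2⟩ := exists_elementary_eight m hK hq Φ hu hl
  let P0 : Sylow 2 ↥(twistedG2 K (3 ^ m)) := Sylow.ofCard E (by rw [hE, hfac]; norm_num)
  obtain ⟨g, hg⟩ := MulAction.exists_smul_eq ↥(twistedG2 K (3 ^ m)) P0 S
  intro x hx
  have hx' : x ∈ ((g • P0 : Sylow 2 ↥(twistedG2 K (3 ^ m))) : Subgroup ↥(twistedG2 K (3 ^ m))) := by
    rw [hg]; exact hx
  rw [Sylow.coe_subgroup_smul, Subgroup.mem_pointwise_smul_iff_inv_smul_mem] at hx'
  have hx2 : g⁻¹ * x * g ∈ E := by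
    have : (MulAut.conj g)⁻¹ • x = g⁻¹ * x * g := by
      rw [← map_inv, MulAut.smul_def, MulAut.conj_apply, inv_inv]
    rw [this] at hx'
    exact hx'
  have h3 := hE2 _ hx2
  have h4 : g⁻¹ * x * g * (g⁻¹ * x * g) = g⁻¹ * (x * x) * g := by group
  rw [h4] at h3
  have h5 : x * x = g * (g⁻¹ * (x * x) * g) * g⁻¹ := by group
  rw [h5, h3]
  group

end hom

end Cfsg.Agent.Lib.Helper5.ReeCent
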