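import Mathlib
import Cfsg.Prelude.Def_ChevStructure
import Cfsg.Prelude.Def_LieTwisted
import Cfsg.Agent.Lib.Helper5.ReeCent.Syl
import Cfsg.Agent.Lib.Helper5.Ree.ThreeStab

set_option autoImplicit false

/-!
The centraliser in the Ree group `²G₂(q)` of an element `h(z)`, `z² ≠ 1`, of the torus `H¹` is `H¹`.
-/

namespace Cfsg.Agent.Lib.Helper5.ReeTori

open Cfsg Cfsg.Lie Cfsg.Agent.Lib.Helper5.ChevSym Cfsg.Agent.Lib.Helper5.ChevSymP
  Cfsg.Agent.Lib.Helper5.ChevStruct Cfsg.Agent.Lib.Helper5.Ree Cfsg.Agent.Lib.Helper5.PSL2Solv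
  Cfsg.Agent.Lib.Helper5.ReeCent

variable {K : Type*} [Field K] [CharP K 3] (m : ℕ) [Fintype K]
  (hq : ∀ x : K, x ^ 3 ^ (2 * m + 1) = x)

omit [CharP K 3] [Fintype K] in
include hq in
/-- a fourth root of unity is a square root of unity -/
theorem sq_eq_one_of_pow_four (z : K) (hz : z ^ 4 = 1) :
    z ^ 2 = 1 := by
  have h8 := Cfsg.Agent.Lib.Helper5.ReeCent.pow_mod_sixteen m
  obtain ⟨j, hj⟩ : ∃ j, 3 ^ (2 * m + 1) = 8 * j + 3 := ⟨3 ^ (2 * m + 1) / 8, by omega⟩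
  have hz0 : z ≠ 0 := by
    rintro rfl
    norm_num at hz
  have h1 := hq z
  rw [hj] at h1
  have h2 : z ^ (8 * j + 3) = z ^ 2 * z := by
    have : 8 * j + 3 = 4 * (2 * j) + 2 + 1 := by ring
    rw [this, pow_succ, pow_add, pow_mul, hz, one_pow, one_mul]
  rw [h2] at h1
  have h3 : z ^ 2 * z = 1 * z := by rw [h1, one_mul]
  exact mul_right_cancel₀ hz0 h3

theorem yE_injective (u u' : K) (h : yE m u = yE m u') : u = u' := by
  have h1 : nE m * yE m u * (nE m)⁻¹ = nE m * yE m u' * (nE m)⁻¹ := by rw [h]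
  rw [nE_conj_yE, nE_conj_yE, xE_eq_al, xE_eq_al] at h1
  have := (al_injective m _ _ _ _ _ _ h1).2.1
  exact neg_injective this

include hq in
/-- `n₀` does not commute with `h(z)` when `z² ≠ 1` -/
theorem n0_not_comm (z : Kˣ) (hz2 : (z : K) ^ 2 ≠ 1) :
    ¬ Commute (hz m z) (n0 K) := by
  intro hc
  rw [← nE_eq_n0 m] at hc
  have h1 : nE m * (hz m z * xE m 1 * (hz m z)⁻¹) * (nE m)⁻¹
      = hz m z * (nE m * xE m 1 * (nE m)⁻¹) * (hz m z)⁻¹ := by
    have e1 : nE m * (hz m z * xE m 1 * (hz m z)⁻¹) * (nE m)⁻¹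
        = (nE m * hz m z) * xE m 1 * (nE m * hz m z)⁻¹ := by group
    have e2 : hz m z * (nE m * xE m 1 * (nE m)⁻¹) * (hz m z)⁻¹
        = (hz m z * nE m) * xE m 1 * (hz m z * nE m)⁻¹ := by group
    rw [e1, e2, hc.eq]
  rw [hz_conj_xE m hq, nE_conj_xE, nE_conj_xE, hz_conj_yE m hq] at h1
  have h2 := yE_injective m _ _ h1
  set c := chi chevG2 (hzF m z) 10 with hcdef
  have hc0 : c ≠ 0 := by
    rw [hcdef, chi10_eq]
    exact mul_ne_zero (by rw [ps_apply]; exact pow_ne_zero _ z.ne_zero) (inv_ne_zero z.ne_zero)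
  have h3 : c * c = 1 := by
    have h6 : c = c⁻¹ := by linear_combination -h2
    calc c * c = c * c⁻¹ := by rw [← h6]
      _ = 1 := mul_inv_cancel₀ hc0
  -- `χ(z²) = 1`
  have h4 : chi chevG2 (hzF m (z * z)) 10 = 1 := by
    rw [chi10_eq, Units.val_mul, map_mul, mul_inv]
    rw [hcdef, chi10_eq] at h3
    calc ps m (z : K) * ps m (z : K) * ((z : K)⁻¹ * (z : K)⁻¹)
        = (ps m (z : K) * (z : K)⁻¹) * (ps m (z : K) * (z : K)⁻¹) := by ring
      _ = 1 := h3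
  have h5 : ((z * z : Kˣ) : K) ^ 2 = 1 := by
    by_contra h5
    exact chi10_ne_one m hq (z * z) h5 h4
  apply hz2
  apply sq_eq_one_of_pow_four m hq
  rw [Units.val_mul] at h5
  calc (z : K) ^ 4 = ((z : K) * (z : K)) ^ 2 := by ring
    _ = 1 := h5

include hq in
/-- `C_{U¹}(h(z)) = 1` when `z² ≠ 1` -/
theorem cent_pos_torus (z : Kˣ) (hz2 : (z : K) ^ 2 ≠ 1) (u : GL chevG2.Idx K)
    (hu : u ∈ chevG2.posUnipotent K ⊓ fixG m) (hc : Commute (hz m z) u) : u = 1 := by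
  obtain ⟨t, x, v, e⟩ := (pos_fix_iff m hq u).1 hu
  have e' : u = al m t x v := e
  by_contra hne
  have h0 : ¬ (t = 0 ∧ x = 0 ∧ v = 0) := by
    rintro ⟨rfl, rfl, rfl⟩
    exact hne (by rw [e', al_zero])
  rw [e'] at hc
  rcases centralizer_cases m hq z t x v h0 hc.eq with h | h
  · apply hz2
    rw [h, Units.val_one, one_pow]
  · apply hz2
    rw [h, Units.val_neg, Units.val_one]
    norm_num

include hq in
theorem borel_case (z : Kˣ) (hz2 : (z : K) ^ 2 ≠ 1) (b d : GL chevG2.Idx K)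
    (hb : b ∈ chevG2.borelSubgroup K ⊓ fixG m) (hd : d ∈ chevG2.diagonalSubgroup K)
    (e : hz m z * b * (hz m z)⁻¹ * d = b) :
    b ∈ chevG2.diagonalSubgroup K ⊓ fixG m ∧ d = 1 := by
  obtain ⟨u, huU, h, hh, rfl⟩ := borel_fix m b (Subgroup.mem_inf.1 hb).1 (Subgroup.mem_inf.1 hb).2
  obtain ⟨z', rfl⟩ := (diag_fix_iff m hq h).1 hh
  have had : hz m z ∈ chevG2.diagonalSubgroup K := hz_mem_diag m z
  have haf : hz m z ∈ fixG m := hz_mem_fixG m hq z
  obtain ⟨a, ha⟩ : ∃ a : GL chevG2.Idx K, a = hz m z := ⟨_, rfl⟩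
  rw [← ha] at e had haf
  have hcomm : a * hz m z' = hz m z' * a := by
    rw [ha]
    exact (hz_comm m z z').eq
  have e1 : a * u * a⁻¹ * (hz m z' * d) = u * hz m z' := by
    have : a * u * a⁻¹ * (hz m z' * d) = a * u * (a⁻¹ * hz m z' * a) * a⁻¹ * d := by group
    rw [this]
    have h2 : a⁻¹ * hz m z' * a = hz m z' := by
      rw [mul_assoc, ← hcomm, ← mul_assoc, inv_mul_cancel, one_mul]
    rw [h2, ← e]
    group
  have hau : a * u * a⁻¹ ∈ chevG2.posUnipotent K := by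
    have := diagonal_le_normalizer_pos chevG2 hG2 had
    exact (Subgroup.mem_normalizer_iff.1 this u).1 (Subgroup.mem_inf.1 huU).1
  have h3 : u⁻¹ * (a * u * a⁻¹) ∈ chevG2.posUnipotent K ⊓ chevG2.diagonalSubgroup K := by
    refine Subgroup.mem_inf.2 ⟨mul_mem (inv_mem (Subgroup.mem_inf.1 huU).1) hau, ?_⟩
    have e2 : u⁻¹ * (a * u * a⁻¹) = hz m z' * (hz m z' * d)⁻¹ := by
      have : a * u * a⁻¹ = u * hz m z' * (hz m z' * d)⁻¹ := by
        rw [← e1]; group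
      rw [this]; group
    rw [e2]
    exact mul_mem (hz_mem_diag m z') (inv_mem (mul_mem (hz_mem_diag m z') hd))
  rw [pos_inf_diagonal chevG2 hG2, Subgroup.mem_bot] at h3
  have h4 : a * u * a⁻¹ = u := by
    have : a * u * a⁻¹ = u * (u⁻¹ * (a * u * a⁻¹)) := by group
    rw [this, h3, mul_one]
  have hcu : Commute a u := by
    show a * u = u * a
    calc a * u = a * u * a⁻¹ * a := by group
      _ = u * a := by rw [h4]
  rw [ha] at hcu
  have hu1 := cent_pos_torus m hq z hz2 u huU hcu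
  subst hu1
  refine ⟨by rw [one_mul]; exact hh, ?_⟩
  rw [h4, one_mul, one_mul] at e1
  exact mul_left_cancel (a := hz m z') (by rw [e1, mul_one])

include hq in
/-- the centraliser of `h(z)`, `z² ≠ 1`, in the Ree group is the torus `H¹` -/
theorem cent_torus (z : Kˣ) (hz2 : (z : K) ^ 2 ≠ 1)
    (g : GL chevG2.Idx K) (hg : g ∈ fixG m) (hc : Commute (hz m z) g) :
    g ∈ chevG2.diagonalSubgroup K ⊓ fixG m := by
  have hn0 := n0_mem_fixG (K := K) m hq
  have haf : hz m z ∈ fixG m := hz_mem_fixG m hq _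
  have had : hz m z ∈ chevG2.diagonalSubgroup K := hz_mem_diag m _
  rcases cell_fix m hn0.2 g hg with h | ⟨b, hb, v, hv, rfl⟩
  · refine (borel_case m hq z hz2 g 1 (Subgroup.mem_inf.2 ⟨h, hg⟩) (one_mem _) ?_).1
    rw [mul_one, hc.eq, mul_assoc, mul_inv_cancel, mul_one]
  · exfalso
    have hnc := n0_not_comm m hq z hz2
    obtain ⟨a, ha⟩ : ∃ a : GL chevG2.Idx K, a = hz m z := ⟨_, rfl⟩
    rw [← ha] at haf had hc hnc
    obtain ⟨d, hd⟩ : ∃ d : GL chevG2.Idx K, d = a * (n0 K * a⁻¹ * (n0 K)⁻¹) := ⟨_, rfl⟩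
    have hdd : d ∈ chevG2.diagonalSubgroup K := by
      rw [hd]
      refine mul_mem had ?_
      rw [← diagonal_map_conj chevG2 hG2 (n0 K) n0_mem_mono]
      exact ⟨a⁻¹, inv_mem had, rfl⟩
    have e1 : a * b * a⁻¹ * d * n0 K * (a * v * a⁻¹) = b * n0 K * v := by
      have : a * b * a⁻¹ * d * n0 K * (a * v * a⁻¹) = a * (b * n0 K * v) * a⁻¹ := by
        rw [hd]; group
      rw [this, hc.eq, mul_assoc, mul_inv_cancel, mul_one]
    have huneg : ∀ v ∈ chevG2.posUnipotent K ⊓ fixG m, v ∈ unegOf chevG2 K (n0 K) := fun v hv =>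
      unegSub_le_unegOf chevG2 hG2 w0 w0_wd (pos_le_unegSub_w0 (Subgroup.mem_inf.1 hv).1)
    have hav : a * v * a⁻¹ ∈ chevG2.posUnipotent K ⊓ fixG m := by
      refine Subgroup.mem_inf.2 ⟨?_, mul_mem (mul_mem haf (Subgroup.mem_inf.1 hv).2) (inv_mem haf)⟩
      have := diagonal_le_normalizer_pos chevG2 hG2 had
      exact (Subgroup.mem_normalizer_iff.1 this v).1 (Subgroup.mem_inf.1 hv).1
    have hab : a * b * a⁻¹ * d ∈ chevG2.borelSubgroup K :=
      mul_mem (mul_mem (mul_mem (diagonal_le_borel chevG2 had) (Subgroup.mem_inf.1 hb).1)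
        (inv_mem (diagonal_le_borel chevG2 had))) (diagonal_le_borel chevG2 hdd)
    have huq := bruhat_unique chevG2 hG2 _ _ _ _ _ _ hab (Subgroup.mem_inf.1 hb).1
      (n0_mem_mono (K := K)) (n0_mem_mono (K := K)) (huneg _ hav) (huneg v hv) e1
    obtain ⟨hbb, -⟩ := huq.2 rfl
    rw [ha] at hbb
    obtain ⟨-, hd1⟩ := borel_case m hq z hz2 b d hb hdd hbb
    apply hnc
    show a * n0 K = n0 K * a
    have : a * (n0 K * a⁻¹ * (n0 K)⁻¹) = 1 := by rw [← hd, hd1]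
    calc a * n0 K = a * (n0 K * a⁻¹ * (n0 K)⁻¹) * n0 K * a := by group
      _ = n0 K * a := by rw [this, one_mul]

end Cfsg.Agent.Lib.Helper5.ReeTori
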