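import Mathlib
import Cfsg.Prelude.Def_ChevStructure
import Cfsg.Prelude.Def_LieTwisted
import Cfsg.Agent.Lib.Helper5.ReeCent.TorusCent

set_option autoImplicit false

/-!
The torus `H¹` of the Ree group `²G₂(q)` as a subgroup of the Ree group: centralisers of its elements,
and the centralisers of the elements of prime order dividing `(q - 1) / 2`.
-/

namespace Cfsg.Agent.Lib.Helper5.ReeTori

open Cfsg Cfsg.Lie Cfsg.Agent.Lib.Helper5.ChevSym Cfsg.Agent.Lib.Helper5.ChevSymP
  Cfsg.Agent.Lib.Helper5.ChevStruct Cfsg.Agent.Lib.Helper5.Ree Cfsg.Agent.Lib.Helper5.PSL2Solv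
  Cfsg.Agent.Lib.Helper5.ReeCent

section generic

variable {G : Type*} [Group G]

theorem centralizer_conj (g y : G) :
    Subgroup.centralizer {g * y * g⁻¹} =
      (Subgroup.centralizer {y}).map (MulAut.conj g).toMonoidHom := by
  ext x
  rw [Subgroup.mem_map, Subgroup.mem_centralizer_iff]
  constructor
  · intro h
    refine ⟨g⁻¹ * x * g, ?_, ?_⟩
    · rw [Subgroup.mem_centralizer_iff]
      intro w hw
      rw [Set.mem_singleton_iff] at hw
      subst hw
      have h1 := h _ (Set.mem_singleton _)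
      calc w * (g⁻¹ * x * g) = g⁻¹ * (g * w * g⁻¹ * x) * g := by group
        _ = g⁻¹ * (x * (g * w * g⁻¹)) * g := by rw [h1]
        _ = g⁻¹ * x * g * w := by group
    · show g * (g⁻¹ * x * g) * g⁻¹ = x
      group
  · rintro ⟨c, hc, rfl⟩ w hw
    rw [Set.mem_singleton_iff] at hw
    subst hw
    rw [Subgroup.mem_centralizer_iff] at hc
    have h1 := hc y (Set.mem_singleton _)
    show g * y * g⁻¹ * (g * c * g⁻¹) = g * c * g⁻¹ * (g * y * g⁻¹)
    calc g * y * g⁻¹ * (g * c * g⁻¹) = g * (y * c) * g⁻¹ := by group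
      _ = g * (c * y) * g⁻¹ := by rw [h1]
      _ = g * c * g⁻¹ * (g * y * g⁻¹) := by group

theorem card_map_conj (H : Subgroup G) (g : G) :
    Nat.card (H.map (MulAut.conj g).toMonoidHom) = Nat.card H :=
  Subgroup.card_map_of_injective (MulAut.conj g).injective

theorem isCyclic_map_conj (H : Subgroup G) (g : G) (hH : IsCyclic H) :
    IsCyclic (H.map (MulAut.conj g).toMonoidHom) :=
  ((H.equivMapOfInjective (MulAut.conj g).toMonoidHom (MulAut.conj g).injective).isCyclic).1 hH

end generic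

variable {K : Type*} [Field K] [CharP K 3] (m : ℕ) [Fintype K]
  (hq : ∀ x : K, x ^ 3 ^ (2 * m + 1) = x)

/-- the torus `H¹` inside the Ree group -/
def H0 : Subgroup ↥(twistedG2 K (3 ^ m)) :=
  (chevG2.diagonalSubgroup K ⊓ fixG m).subgroupOf (twistedG2 K (3 ^ m))

omit [Fintype K] in
theorem mem_H0 (x : ↥(twistedG2 K (3 ^ m))) :
    x ∈ H0 m ↔ (x : GL chevG2.Idx K) ∈ chevG2.diagonalSubgroup K ⊓ fixG m :=
  Subgroup.mem_subgroupOf

include hq in
theorem diag_fix_le : chevG2.diagonalSubgroup K ⊓ fixG m ≤ twistedG2 K (3 ^ m) := by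
  rw [twisted_eq_fixG m hq]
  exact inf_le_right

include hq in
theorem card_H0 : Nat.card (H0 (K := K) m) = Fintype.card K - 1 := by
  rw [← card_diag_fix m hq]
  exact Nat.card_congr (Subgroup.subgroupOfEquivOfLe (diag_fix_le m hq)).toEquiv

include hq in
theorem isCyclic_H0 : IsCyclic (H0 (K := K) m) :=
  ((Subgroup.subgroupOfEquivOfLe (diag_fix_le m hq)).isCyclic).2 (isCyclic_diag_fix m hq)

omit [Fintype K] in
include hq in
theorem H0_comm (x y : ↥(twistedG2 K (3 ^ m))) (hx : x ∈ H0 m) (hy : y ∈ H0 m) :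
    x * y = y * x := by
  obtain ⟨z, hz⟩ := (diag_fix_iff m hq _).1 ((mem_H0 m x).1 hx)
  obtain ⟨z', hz'⟩ := (diag_fix_iff m hq _).1 ((mem_H0 m y).1 hy)
  apply Subtype.ext
  show (x : GL chevG2.Idx K) * (y : GL chevG2.Idx K) = (y : GL chevG2.Idx K) * (x : GL chevG2.Idx K)
  rw [hz, hz']
  exact (hz_comm m z z').eq

include hq in
/-- the centraliser of an element of `H¹` whose square is not `1` -/
theorem centralizer_of_mem_H0 (x : ↥(twistedG2 K (3 ^ m))) (hx : x ∈ H0 m) (hx2 : x * x ≠ 1) :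
    Subgroup.centralizer {x} = H0 m := by
  obtain ⟨z, hxz⟩ := (diag_fix_iff m hq _).1 ((mem_H0 m x).1 hx)
  have hz2 : (z : K) ^ 2 ≠ 1 := by
    intro h
    apply hx2
    apply Subtype.ext
    show (x : GL chevG2.Idx K) * (x : GL chevG2.Idx K) = 1
    rw [hxz, ← map_mul]
    have : z * z = 1 := Units.ext (by rw [Units.val_mul, ← pow_two, h, Units.val_one])
    rw [this, map_one]
  apply le_antisymm
  · intro g hg
    rw [Subgroup.mem_centralizer_iff] at hg
    have h1 := hg x (Set.mem_singleton _)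
    have hc : Commute (hz m z) (g : GL chevG2.Idx K) := by
      show hz m z * (g : GL chevG2.Idx K) = (g : GL chevG2.Idx K) * hz m z
      rw [← hxz]
      exact congrArg Subtype.val h1
    rw [mem_H0]
    exact cent_torus m hq z hz2 _ (twisted_le_fixG m hq g.2) hc
  · intro g hg
    rw [Subgroup.mem_centralizer_iff]
    intro w hw
    rw [Set.mem_singleton_iff] at hw
    subst hw
    exact H0_comm m hq _ _ hx hg

end Cfsg.Agent.Lib.Helper5.ReeTori
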