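import Mathlib
import Cfsg.Prelude.Def_ChevStructure
import Cfsg.Prelude.Def_LieTwisted
import Cfsg.Agent.Lib.Helper5.ReeCent.TorusCent2
import Cfsg.Agent.Lib.Helper5.ReeCent.CentAbs
import Cfsg.Agent.Lib.Helper5.ReeCent.Syl

set_option autoImplicit false

/-!
The centraliser in `²G₂(q)` of an element of prime order dividing `(q - 1) / 2`.
-/

namespace Cfsg.Agent.Lib.Helper5.ReeTori

open Cfsg Cfsg.Lie Cfsg.Agent.Lib.Helper5.ChevSym Cfsg.Agent.Lib.Helper5.ChevSymP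
  Cfsg.Agent.Lib.Helper5.ChevStruct Cfsg.Agent.Lib.Helper5.Ree Cfsg.Agent.Lib.Helper5.PSL2Solv
  Cfsg.Agent.Lib.Helper5.ReeCent

variable {K : Type*} [Field K] [CharP K 3] (m : ℕ) [Fintype K]
  (hK : Fintype.card K = 3 ^ (2 * m + 1))

include hK in
theorem card_twistedG2_eq :
    Nat.card ↥(twistedG2 K (3 ^ m)) =
      (3 ^ (2 * m + 1)) ^ 3 * (3 ^ (2 * m + 1) - 1) * ((3 ^ (2 * m + 1)) ^ 3 + 1) := by
  have hq := pow_card_eq hK
  rw [twisted_eq_fixG m hq, card_fixG m hq, hK]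

include hK in
theorem index_H0 :
    (H0 (K := K) m).index = (3 ^ (2 * m + 1)) ^ 3 * ((3 ^ (2 * m + 1)) ^ 3 + 1) := by
  have hq := pow_card_eq hK
  have h1 := (H0 (K := K) m).card_mul_index
  rw [card_H0 m hq, card_twistedG2_eq m hK, hK] at h1
  have hpos : 0 < 3 ^ (2 * m + 1) - 1 := by
    have : 3 ^ 1 ≤ 3 ^ (2 * m + 1) := Nat.pow_le_pow_right (by norm_num) (by omega)
    omega
  apply Nat.eq_of_mul_eq_mul_left hpos
  rw [h1]
  ring

/-- an odd prime dividing `q - 1` does not divide `q ^ 3 * (q ^ 3 + 1)` -/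
theorem not_dvd_of_dvd_pred (q p : ℕ) (hp : p.Prime) (hp2 : p ≠ 2) (hq : 1 ≤ q) (hd : p ∣ q - 1) :
    ¬ p ∣ q ^ 3 * (q ^ 3 + 1) := by
  intro h
  have hq1 : q % p = 1 % p := by
    have : q = (q - 1) + 1 := by omega
    rw [this, Nat.add_mod, Nat.mod_eq_zero_of_dvd hd]
    simp
  have hp1 : 1 % p = 1 := Nat.mod_eq_of_lt hp.one_lt
  have hq3 : q ^ 3 % p = 1 := by
    rw [Nat.pow_mod, hq1, hp1]
    simp [hp1]
  rcases (Nat.Prime.dvd_mul hp).1 h with h | h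
  · have := Nat.mod_eq_zero_of_dvd h
    omega
  · have h2 : (q ^ 3 + 1) % p = 2 % p := by
      rw [Nat.add_mod, hq3, hp1]
    have h3 := Nat.mod_eq_zero_of_dvd h
    rw [h2] at h3
    have h4 : p ∣ 2 := Nat.dvd_of_mod_eq_zero h3
    have h5 := Nat.le_of_dvd (by norm_num) h4
    have h6 := hp.two_le
    omega

include hK in
/-- the centraliser of an element of odd prime order `p ∣ q - 1` -/
theorem centralizer_split_prime (y : ↥(twistedG2 K (3 ^ m))) (p : ℕ) (hp : p.Prime)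
    (hpo : orderOf y = p) (hp2 : p ≠ 2) (hpd : p ∣ 3 ^ (2 * m + 1) - 1) :
    IsCyclic ↥(Subgroup.centralizer {y}) ∧
      Nat.card ↥(Subgroup.centralizer {y}) = 3 ^ (2 * m + 1) - 1 ∧
      ∀ x ∈ Subgroup.centralizer {y}, ∀ x' ∈ Subgroup.centralizer {y}, x * x' = x' * x := by
  have hq := pow_card_eq hK
  have : Fact p.Prime := ⟨hp⟩
  have : Finite ↥(twistedG2 K (3 ^ m)) := by
    apply Nat.finite_of_card_ne_zero
    rw [card_twistedG2_eq m hK]
    have h3 : 3 ^ 1 ≤ 3 ^ (2 * m + 1) := Nat.pow_le_pow_right (by norm_num) (by omega)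
    have h4 : 0 < 3 ^ (2 * m + 1) - 1 := by omega
    have h5 : 0 < (3 ^ (2 * m + 1)) ^ 3 := Nat.pow_pos (by omega)
    exact (Nat.mul_pos (Nat.mul_pos h5 h4) (Nat.succ_pos _)).ne'
  have hidx : ¬ p ∣ (H0 (K := K) m).index := by
    rw [index_H0 m hK]
    exact not_dvd_of_dvd_pred _ p hp hp2 (Nat.one_le_pow _ _ (by norm_num)) hpd
  obtain ⟨g, hg⟩ := exists_conj_mem_of_index (H0 (K := K) m) p hidx y 1 (by rw [hpo, pow_one])
  have ho : orderOf (g⁻¹ * y * g) = p := by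
    have := orderOf_injective (MulAut.conj g⁻¹).toMonoidHom (MulAut.conj g⁻¹).injective y
    rw [← hpo, ← this]
    congr 1
  have hx2 : g⁻¹ * y * g * (g⁻¹ * y * g) ≠ 1 := by
    intro h
    have h1 : orderOf (g⁻¹ * y * g) ∣ 2 := by
      apply orderOf_dvd_of_pow_eq_one
      rw [pow_two, h]
    rw [ho] at h1
    have h5 := Nat.le_of_dvd (by norm_num) h1
    have h6 := hp.two_le
    omega
  have hc := centralizer_of_mem_H0 m hq _ hg hx2
  have hy : y = g * (g⁻¹ * y * g) * g⁻¹ := by group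
  have hcy : Subgroup.centralizer {y} = (H0 (K := K) m).map (MulAut.conj g).toMonoidHom := by
    conv_lhs => rw [hy]
    rw [centralizer_conj, hc]
  rw [hcy]
  refine ⟨isCyclic_map_conj _ g (isCyclic_H0 m hq), ?_, ?_⟩
  · rw [card_map_conj, card_H0 m hq, hK]
  · rintro _ ⟨a, ha, rfl⟩ _ ⟨b, hb, rfl⟩
    rw [← map_mul, ← map_mul, H0_comm m hq a b ha hb]

end Cfsg.Agent.Lib.Helper5.ReeTori
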