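import Mathlib
import Cfsg.Agent.S1244

set_option autoImplicit false

/-!
Abstract form of the computation of the normaliser of a Sylow `2`-subgroup of a Ree group:
`C(a) = Z₂ × L`, `V` a self-centralising Klein four-subgroup of `L` with `|N_L(V)| = 12`.
-/

namespace Cfsg.Agent.Lib.Helper5.ReeNorm

section counting

variable {G : Type*} [Group G]

/-- counting through the fibres of a transitive action -/
theorem card_eq_card_mul_card_of_fibers {N X : Type*} [Group N] (f : N → X)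
    (hf : Function.Surjective f) (C : Subgroup N)
    (hfib : ∀ n n', f n = f n' ↔ n⁻¹ * n' ∈ C) :
    Nat.card N = Nat.card X * Nat.card C := by
  rw [Subgroup.card_eq_card_quotient_mul_card_subgroup C]
  congr 1
  apply Nat.card_congr
  refine Equiv.ofBijective (Quotient.lift f
    (fun n n' hnn => (hfib n n').2 (QuotientGroup.leftRel_apply.1 hnn))) ⟨?_, ?_⟩
  · intro x y hxy
    induction x using QuotientGroup.induction_on with
    | H n =>
      induction y using QuotientGroup.induction_on with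
      | H n' =>
        rw [QuotientGroup.eq]
        exact (hfib n n').1 hxy
  · intro x
    obtain ⟨n, rfl⟩ := hf x
    exact ⟨QuotientGroup.mk n, rfl⟩

theorem card_of_conj_transitive (N C : Subgroup G) (hCN : C ≤ N) (a : G) (X : Set G)
    (hX : ∀ x, x ∈ X ↔ ∃ n ∈ N, n * a * n⁻¹ = x)
    (hC : ∀ n ∈ N, n ∈ C ↔ n * a = a * n) :
    Nat.card N = Nat.card X * Nat.card C := by
  have h1 := card_eq_card_mul_card_of_fibers (N := ↥N) (X := ↥X)
    (fun n => ⟨(n : G) * a * (n : G)⁻¹, (hX _).2 ⟨n, n.2, rfl⟩⟩) ?_ (C.subgroupOf N) ?_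
  · rw [h1, Nat.card_congr (Subgroup.subgroupOfEquivOfLe hCN).toEquiv]
  · rintro ⟨x, hx⟩
    obtain ⟨n, hn, rfl⟩ := (hX x).1 hx
    exact ⟨⟨n, hn⟩, rfl⟩
  · intro n n'
    rw [Subgroup.mem_subgroupOf]
    have e : ((n⁻¹ * n' : ↥N) : G) = (n : G)⁻¹ * (n' : G) := rfl
    rw [e, hC _ (N.mul_mem (N.inv_mem n.2) n'.2)]
    constructor
    · intro h
      have h' : (n : G) * a * (n : G)⁻¹ = (n' : G) * a * (n' : G)⁻¹ := congrArg Subtype.val h
      have h2 : a = (n : G)⁻¹ * ((n' : G) * a * (n' : G)⁻¹) * (n : G) := by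
        rw [← h']; group
      calc (n : G)⁻¹ * (n' : G) * a
          = (n : G)⁻¹ * ((n' : G) * a * (n' : G)⁻¹) * (n : G) * ((n : G)⁻¹ * (n' : G)) := by group
        _ = a * ((n : G)⁻¹ * (n' : G)) := by rw [← h2]
    · intro h
      apply Subtype.ext
      show (n : G) * a * (n : G)⁻¹ = (n' : G) * a * (n' : G)⁻¹
      calc (n : G) * a * (n : G)⁻¹
          = (n : G) * (a * ((n : G)⁻¹ * (n' : G))) * (n' : G)⁻¹ := by group
        _ = (n : G) * ((n : G)⁻¹ * (n' : G) * a) * (n' : G)⁻¹ := by rw [h]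
        _ = (n' : G) * a * (n' : G)⁻¹ := by group

end counting

theorem zmod_mul_self (z : Multiplicative (ZMod 2)) : z * z = 1 := by
  revert z
  decide

theorem card_mult_zmod_two : Nat.card (Multiplicative (ZMod 2)) = 2 := by
  rw [Nat.card_eq_fintype_card, Fintype.card_multiplicative, ZMod.card]

section main

variable {G L : Type*} [Group G] [Group L]
  (ψ : Multiplicative (ZMod 2) × L →* G) (V : Subgroup L)

/-- the elementary abelian subgroup of order 8 -/
def EE : Subgroup G := (Subgroup.prod ⊤ V).map ψ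

/-- its part inside `L` -/
def RR : Subgroup G := V.map (ψ.comp (MonoidHom.inr (Multiplicative (ZMod 2)) L))

theorem mem_EE (x : G) :
    x ∈ EE ψ V ↔ ∃ z : Multiplicative (ZMod 2), ∃ v ∈ V, ψ (z, v) = x := by
  constructor
  · rintro ⟨⟨z, v⟩, hzv, rfl⟩
    exact ⟨z, v, (Subgroup.mem_prod.1 hzv).2, rfl⟩
  · rintro ⟨z, v, hv, rfl⟩
    exact ⟨(z, v), Subgroup.mem_prod.2 ⟨Subgroup.mem_top _, hv⟩, rfl⟩

theorem mem_RR (x : G) : x ∈ RR ψ V ↔ ∃ v ∈ V, ψ (1, v) = x := by
  constructor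
  · rintro ⟨v, hv, rfl⟩
    exact ⟨v, hv, rfl⟩
  · rintro ⟨v, hv, rfl⟩
    exact ⟨v, hv, rfl⟩

theorem RR_le_EE : RR ψ V ≤ EE ψ V := by
  intro x hx
  obtain ⟨v, hv, rfl⟩ := (mem_RR ψ V x).1 hx
  exact (mem_EE ψ V _).2 ⟨1, v, hv, rfl⟩

theorem conj_psi (z z' : Multiplicative (ZMod 2)) (y v : L) :
    ψ (z, y) * ψ (z', v) * (ψ (z, y))⁻¹ = ψ (z', y * v * y⁻¹) := by
  rw [← map_inv, ← map_mul, ← map_mul]
  refine congrArg ψ (Prod.ext ?_ ?_)
  · show z * z' * z⁻¹ = z'
    rw [mul_comm z z', mul_inv_cancel_right]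
  · rfl

variable (hψ : Function.Injective ψ)

include hψ in
theorem psi_mem_EE_iff (z : Multiplicative (ZMod 2)) (y : L) : ψ (z, y) ∈ EE ψ V ↔ y ∈ V := by
  rw [mem_EE]
  constructor
  · rintro ⟨z', v, hv, e⟩
    have := hψ e
    have h2 : v = y := congrArg Prod.snd this
    rw [← h2]
    exact hv
  · intro hy
    exact ⟨z, y, hy, rfl⟩

include hψ in
theorem card_EE (hK : IsKleinFour V) : Nat.card (EE ψ V) = 8 := by
  unfold EE
  rw [Subgroup.card_map_of_injective hψ, Nat.card_congr (Subgroup.prodEquiv _ _).toEquiv,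
    Nat.card_prod, Subgroup.card_top, card_mult_zmod_two, hK.card_four]

include hψ in
theorem card_RR (hK : IsKleinFour V) : Nat.card (RR ψ V) = 4 := by
  unfold RR
  have hinj : Function.Injective (ψ.comp (MonoidHom.inr (Multiplicative (ZMod 2)) L)) := by
    intro x y hxy
    have := hψ hxy
    exact congrArg Prod.snd this
  rw [Subgroup.card_map_of_injective hinj, hK.card_four]

theorem V_sq (hK : IsKleinFour V) (u : L) (hu : u ∈ V) : u * u = 1 := by
  have := hK
  exact congrArg Subtype.val (IsKleinFour.mul_self (⟨u, hu⟩ : V))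

theorem V_comm (hK : IsKleinFour V) (u v : L) (hu : u ∈ V) (hv : v ∈ V) : u * v = v * u := by
  have := hK
  exact congrArg Subtype.val
    ((IsKleinFour.isMulCommutative (G := V)).is_comm.comm ⟨u, hu⟩ ⟨v, hv⟩)

theorem EE_sq (hK : IsKleinFour V) (x : G) (hx : x ∈ EE ψ V) : x * x = 1 := by
  obtain ⟨z, v, hv, rfl⟩ := (mem_EE ψ V x).1 hx
  rw [← map_mul, Prod.mk_mul_mk, zmod_mul_self, V_sq V hK v hv]
  exact map_one ψ

theorem EE_comm (hK : IsKleinFour V) (x y : G) (hx : x ∈ EE ψ V) (hy : y ∈ EE ψ V) :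
    x * y = y * x := by
  obtain ⟨z, v, hv, rfl⟩ := (mem_EE ψ V x).1 hx
  obtain ⟨z', v', hv', rfl⟩ := (mem_EE ψ V y).1 hy
  rw [← map_mul, ← map_mul, Prod.mk_mul_mk, Prod.mk_mul_mk, mul_comm z z',
    V_comm V hK v v' hv hv']

variable (hrange : ψ.range = Subgroup.centralizer {ψ (Multiplicative.ofAdd 1, 1)})
  (s t h : L) (hK : IsKleinFour V)
  (hV : ∀ z, z ∈ V ↔ z = 1 ∨ z = s ∨ z = t ∨ z = s * t)
  (hs1 : s ≠ 1) (ht1 : t ≠ 1) (hst : s ≠ t) (hss : s * s = 1) (htt : t * t = 1)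
  (hts : t * s = s * t)
  (hC : ∀ g, g * s = s * g → g * t = t * g → g ∈ V)
  (hhs : h * s * h⁻¹ = t) (hht : h * t * h⁻¹ = s * t)
  (hN : Nat.card (Subgroup.normalizer (V : Set L)) = 12)

theorem a_mem_EE : ψ (Multiplicative.ofAdd 1, 1) ∈ EE ψ V :=
  (mem_EE ψ V _).2 ⟨_, 1, one_mem _, rfl⟩

include hψ in
theorem a_ne_one : ψ (Multiplicative.ofAdd (1 : ZMod 2), (1 : L)) ≠ 1 := by
  intro h1
  rw [← map_one ψ] at h1
  have := hψ h1
  have h2 : Multiplicative.ofAdd (1 : ZMod 2) = 1 := congrArg Prod.fst this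
  revert h2
  decide

include hψ hrange hK hV hC in
theorem centralizer_EE : Subgroup.centralizer (EE ψ V : Set G) = EE ψ V := by
  apply le_antisymm
  · intro g hg
    rw [Subgroup.mem_centralizer_iff] at hg
    have h1 : g ∈ ψ.range := by
      rw [hrange, Subgroup.mem_centralizer_iff]
      intro x hx
      rw [Set.mem_singleton_iff] at hx
      subst hx
      exact hg _ (a_mem_EE ψ V)
    obtain ⟨⟨z, y⟩, rfl⟩ := h1
    rw [psi_mem_EE_iff ψ V hψ]
    have hsV : s ∈ V := (hV s).2 (Or.inr (Or.inl rfl))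
    have htV : t ∈ V := (hV t).2 (Or.inr (Or.inr (Or.inl rfl)))
    have key : ∀ v ∈ V, y * v = v * y := by
      intro v hv
      have h2 := hg (ψ (1, v)) ((mem_EE ψ V _).2 ⟨1, v, hv, rfl⟩)
      rw [← map_mul, ← map_mul] at h2
      have h3 := hψ h2
      have h4 : v * y = y * v := congrArg Prod.snd h3
      exact h4.symm
    exact hC y (key s hsV) (key t htV)
  · intro g hg
    rw [Subgroup.mem_centralizer_iff]
    intro x hx
    exact EE_comm ψ V hK x g hx hg

include hψ in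
theorem mem_normalizer_EE (z : Multiplicative (ZMod 2)) (y : L) :
    ψ (z, y) ∈ Subgroup.normalizer (EE ψ V : Set G) ↔ y ∈ Subgroup.normalizer (V : Set L) := by
  rw [Subgroup.mem_normalizer_iff, Subgroup.mem_normalizer_iff]
  constructor
  · intro hn v
    rw [← psi_mem_EE_iff ψ V hψ 1 v, hn, conj_psi, psi_mem_EE_iff ψ V hψ]
  · intro hn x
    constructor
    · intro hx
      obtain ⟨z', v, hv, rfl⟩ := (mem_EE ψ V x).1 hx
      rw [conj_psi, psi_mem_EE_iff ψ V hψ]
      exact (hn v).1 hv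
    · intro hx
      obtain ⟨z', v', hv', e⟩ := (mem_EE ψ V _).1 hx
      have e2 : x = (ψ (z, y))⁻¹ * ψ (z', v') * ((ψ (z, y))⁻¹)⁻¹ := by
        rw [e]; group
      have e3 : (ψ (z, y))⁻¹ = ψ (z⁻¹, y⁻¹) := by
        rw [← map_inv]; rfl
      rw [e2, e3, conj_psi, psi_mem_EE_iff ψ V hψ]
      rw [hn, inv_inv]
      have : y * (y⁻¹ * v' * y) * y⁻¹ = v' := by group
      rw [this]
      exact hv'

include hV hss htt hts hhs hht in
theorem h_mem_normalizer : h ∈ Subgroup.normalizer (V : Set L) := by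
  have hhst : h * (s * t) * h⁻¹ = s := by
    have : h * (s * t) * h⁻¹ = (h * s * h⁻¹) * (h * t * h⁻¹) := by group
    rw [this, hhs, hht, ← mul_assoc, hts, mul_assoc, htt, mul_one]
  have hi_t : h⁻¹ * t * h = s := by rw [← hhs]; group
  have hi_st : h⁻¹ * (s * t) * h = t := by rw [← hht]; group
  have hi_s : h⁻¹ * s * h = s * t := by
    have h5 : h⁻¹ * (h * (s * t) * h⁻¹) * h = s * t := by group
    rw [hhst] at h5
    exact h5
  rw [Subgroup.mem_normalizer_iff]
  intro v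
  constructor
  · intro hv
    rcases (hV v).1 hv with rfl | rfl | rfl | rfl
    · rw [mul_one, mul_inv_cancel]; exact one_mem _
    · rw [hhs]; exact (hV t).2 (Or.inr (Or.inr (Or.inl rfl)))
    · rw [hht]; exact (hV _).2 (Or.inr (Or.inr (Or.inr rfl)))
    · rw [hhst]; exact (hV s).2 (Or.inr (Or.inl rfl))
  · intro hv
    have e : v = h⁻¹ * (h * v * h⁻¹) * h := by group
    rw [e]
    rcases (hV _).1 hv with h1 | h1 | h1 | h1
    · rw [h1, mul_one, inv_mul_cancel]; exact one_mem _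
    · rw [h1, hi_s]; exact (hV _).2 (Or.inr (Or.inr (Or.inr rfl)))
    · rw [h1, hi_t]; exact (hV s).2 (Or.inr (Or.inl rfl))
    · rw [h1, hi_st]; exact (hV t).2 (Or.inr (Or.inr (Or.inl rfl)))

end main

end Cfsg.Agent.Lib.Helper5.ReeNorm
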