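import Mathlib
import Cfsg.Agent.Lib.Helper5.ReeCent.NormAbs
import Cfsg.Agent.Lib.Helper5.ReeCent.CentAbs
import Cfsg.Agent.Lib.Helper5.ReeCent.TorusCent2

set_option autoImplicit false

/-!
Abstract form of the computation of the centraliser of an element of prime order dividing
`(q + 1) / 4` in a Ree group: `C(a) = Z₂ × L`, elements of order `p` of `L` have commutative
centralisers of order `(q + 1) / 2`, Sylow `2`-subgroups are self-centralising and elementary
abelian of order `8`, all involutions are conjugate.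
-/

namespace Cfsg.Agent.Lib.Helper5.ReeTori

open Cfsg.Agent.Lib.Helper5.ReeNorm

theorem factorization_two_of_mod_eight (N : ℕ) (h : N % 8 = 4) : N.factorization 2 = 2 := by
  obtain ⟨M, hM⟩ : ∃ M, N = 4 * M := ⟨N / 4, by omega⟩
  have hM2 : ¬ 2 ∣ M := by omega
  have hM0 : M ≠ 0 := by
    rintro rfl
    omega
  rw [hM, Nat.factorization_mul (by norm_num) hM0]
  have h4 : (4 : ℕ).factorization 2 = 2 := by
    have : (4 : ℕ) = 2 ^ 2 := by norm_num
    rw [this, Nat.Prime.factorization_pow Nat.prime_two]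
    simp
  have hmf : M.factorization 2 = 0 := Nat.factorization_eq_zero_of_not_dvd hM2
  simp [h4, hmf]

section abs

variable {G L : Type*} [Group G] [Group L]
  (ψ : Multiplicative (ZMod 2) × L →* G) (hψ : Function.Injective ψ)
  (hrange : ψ.range = Subgroup.centralizer {ψ (Multiplicative.ofAdd 1, 1)})
  (Q p : ℕ) (hp : p.Prime) (hp2 : p ≠ 2)
  (hL : ∀ l : L, orderOf l = p → Nat.card (Subgroup.centralizer {l}) * 2 = Q + 1 ∧
     ∀ x ∈ Subgroup.centralizer {l}, ∀ x' ∈ Subgroup.centralizer {l}, x * x' = x' * x)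

theorem a_mul_self : ψ (Multiplicative.ofAdd (1 : ZMod 2), (1 : L)) *
    ψ (Multiplicative.ofAdd (1 : ZMod 2), (1 : L)) = 1 := by
  rw [← map_mul, Prod.mk_mul_mk, zmod_mul_self, mul_one]
  exact map_one ψ

include hψ hrange hp hp2 hL in
/-- the centraliser of an element of order `p` inside the centraliser of the involution `a` -/
theorem inf_centralizer (y : G) (hy : orderOf y = p)
    (hya : y * ψ (Multiplicative.ofAdd 1, 1) = ψ (Multiplicative.ofAdd 1, 1) * y) :
    Nat.card ↥(Subgroup.centralizer {y} ⊓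
        Subgroup.centralizer {ψ (Multiplicative.ofAdd 1, 1)}) = Q + 1 ∧
      ∀ x ∈ Subgroup.centralizer {y} ⊓ Subgroup.centralizer {ψ (Multiplicative.ofAdd 1, 1)},
        ∀ x' ∈ Subgroup.centralizer {y} ⊓ Subgroup.centralizer {ψ (Multiplicative.ofAdd 1, 1)},
          x * x' = x' * x := by
  have hyr : y ∈ ψ.range := by
    rw [hrange, Subgroup.mem_centralizer_singleton_iff]
    exact hya
  obtain ⟨⟨z, l⟩, rfl⟩ := hyr
  obtain ⟨k, hk⟩ : ∃ k, p = 2 * k + 1 := by
    rcases hp.eq_two_or_odd with h | h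
    · exact absurd h hp2
    · exact ⟨p / 2, by omega⟩
  have hz : z = 1 := by
    have h1 : ψ (z, l) ^ p = 1 := by rw [← hy]; exact pow_orderOf_eq_one _
    rw [← map_pow] at h1
    have h2 : (z, l) ^ p = 1 := hψ (by rw [h1, map_one])
    have h3 : z ^ p = 1 := congrArg Prod.fst h2
    rw [hk, pow_succ, pow_mul, pow_two, zmod_mul_self, one_pow, one_mul] at h3
    exact h3
  subst hz
  have hl : orderOf l = p := by
    rw [← hy]
    have hinj : Function.Injective (ψ.comp (MonoidHom.inr (Multiplicative (ZMod 2)) L)) :=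
      fun x y hxy => congrArg Prod.snd (hψ hxy)
    exact (orderOf_injective _ hinj l).symm
  obtain ⟨hc1, hc2⟩ := hL l hl
  have heq : Subgroup.centralizer {ψ (1, l)} ⊓
      Subgroup.centralizer {ψ (Multiplicative.ofAdd 1, 1)} = EE ψ (Subgroup.centralizer {l}) := by
    ext x
    rw [Subgroup.mem_inf, mem_EE, ← hrange]
    constructor
    · rintro ⟨hx1, ⟨⟨z', l'⟩, rfl⟩⟩
      rw [Subgroup.mem_centralizer_singleton_iff, ← map_mul, ← map_mul] at hx1
      have := hψ hx1
      refine ⟨z', l', ?_, rfl⟩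
      rw [Subgroup.mem_centralizer_singleton_iff]
      exact congrArg Prod.snd this
    · rintro ⟨z', l', hl', rfl⟩
      refine ⟨?_, ⟨_, rfl⟩⟩
      rw [Subgroup.mem_centralizer_singleton_iff] at hl' ⊢
      rw [← map_mul, ← map_mul, Prod.mk_mul_mk, Prod.mk_mul_mk, hl', mul_comm z' 1]
  rw [heq]
  constructor
  · unfold EE
    rw [Subgroup.card_map_of_injective hψ, Nat.card_congr (Subgroup.prodEquiv _ _).toEquiv,
      Nat.card_prod, Subgroup.card_top, card_mult_zmod_two, mul_comm, hc1]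
  · intro x hx x' hx'
    obtain ⟨z, v, hv, rfl⟩ := (mem_EE ψ _ x).1 hx
    obtain ⟨z', v', hv', rfl⟩ := (mem_EE ψ _ x').1 hx'
    rw [← map_mul, ← map_mul, Prod.mk_mul_mk, Prod.mk_mul_mk, mul_comm z z', hc2 v hv v' hv']

include hrange in
theorem range_conj_comp (g : G) :
    ((MulAut.conj g).toMonoidHom.comp ψ).range =
      Subgroup.centralizer {((MulAut.conj g).toMonoidHom.comp ψ) (Multiplicative.ofAdd 1, 1)} := by
  rw [MonoidHom.range_comp, hrange]
  exact (centralizer_conj g _).symm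

include hψ hrange hp hp2 hL in
/-- the centraliser of an element of order `p` inside the centraliser of a conjugate of `a` -/
theorem inf_centralizer_inv (y : G) (hy : orderOf y = p) (g : G)
    (hyt : y * (g * ψ (Multiplicative.ofAdd 1, 1) * g⁻¹) =
      g * ψ (Multiplicative.ofAdd 1, 1) * g⁻¹ * y) :
    Nat.card ↥(Subgroup.centralizer {y} ⊓
        Subgroup.centralizer {g * ψ (Multiplicative.ofAdd 1, 1) * g⁻¹}) = Q + 1 ∧
      ∀ x ∈ Subgroup.centralizer {y} ⊓
          Subgroup.centralizer {g * ψ (Multiplicative.ofAdd 1, 1) * g⁻¹},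
        ∀ x' ∈ Subgroup.centralizer {y} ⊓
            Subgroup.centralizer {g * ψ (Multiplicative.ofAdd 1, 1) * g⁻¹},
          x * x' = x' * x :=
  inf_centralizer ((MulAut.conj g).toMonoidHom.comp ψ) ((MulAut.conj g).injective.comp hψ)
    (range_conj_comp ψ hrange g) Q p hp hp2 hL y hy hyt

end abs

section abs2

variable {G L : Type*} [Group G] [Group L] [Finite G]
  (ψ : Multiplicative (ZMod 2) × L →* G) (hψ : Function.Injective ψ)
  (hrange : ψ.range = Subgroup.centralizer {ψ (Multiplicative.ofAdd 1, 1)})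
  (Q p : ℕ) (hp : p.Prime) (hp2 : p ≠ 2)
  (hL : ∀ l : L, orderOf l = p → Nat.card (Subgroup.centralizer {l}) * 2 = Q + 1 ∧
     ∀ x ∈ Subgroup.centralizer {l}, ∀ x' ∈ Subgroup.centralizer {l}, x * x' = x' * x)
  (hQ : Q % 8 = 3)
  (hsyl : ∀ S : Sylow 2 G, Nat.card S = 8 ∧ (∀ x ∈ S, x * x = 1) ∧
    Subgroup.centralizer ((S : Subgroup G) : Set G) = S)
  (hinv : ∀ t : G, t * t = 1 → t ≠ 1 →
    ∃ g : G, t = g * ψ (Multiplicative.ofAdd 1, 1) * g⁻¹)
  (hidx : ¬ p ∣ (Subgroup.centralizer {ψ (Multiplicative.ofAdd 1, 1)}).index)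
  (h3 : ∀ w y : G, orderOf w = 3 → orderOf y = p → w * y ≠ y * w)

omit [Finite G] in
include hsyl in
/-- `2`-subgroups have exponent two -/
theorem sq_eq_one_of_two_group (E : Subgroup G) (k : ℕ) (hE : Nat.card E = 2 ^ k) (x : G)
    (hx : x ∈ E) : x * x = 1 := by
  have h1 : IsPGroup 2 E := IsPGroup.of_card hE
  obtain ⟨S, hS⟩ := h1.exists_le_sylow
  exact (hsyl S).2.1 x (hS hx)

include hψ hrange hp hp2 hL hQ hsyl hinv hidx h3 in
/-- the centraliser of an element of order `p` -/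
theorem centralizer_of_prime_abs (y : G) (hy : orderOf y = p) :
    Nat.card ↥(Subgroup.centralizer {y}) = Q + 1 ∧
      ∀ x ∈ Subgroup.centralizer {y}, ∀ x' ∈ Subgroup.centralizer {y}, x * x' = x' * x := by
  have : Fact p.Prime := ⟨hp⟩
  -- conjugate `a` into the centraliser of `y`
  obtain ⟨g, hg⟩ := exists_conj_mem_of_index _ p hidx y 1 (by rw [hy, pow_one])
  rw [Subgroup.mem_centralizer_singleton_iff] at hg
  obtain ⟨a, hadef⟩ : ∃ a, a = ψ (Multiplicative.ofAdd 1, 1) := ⟨_, rfl⟩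
  rw [← hadef] at hg
  have hyt : y * (g * a * g⁻¹) = g * a * g⁻¹ * y := by
    calc y * (g * a * g⁻¹) = g * (g⁻¹ * y * g * a) * g⁻¹ := by group
      _ = g * (a * (g⁻¹ * y * g)) * g⁻¹ := by rw [hg]
      _ = g * a * g⁻¹ * y := by group
  rw [hadef] at hyt
  obtain ⟨hT0card, hT0comm⟩ := inf_centralizer_inv ψ hψ hrange Q p hp hp2 hL y hy g hyt
  obtain ⟨T₀, hT0def⟩ : ∃ T₀, T₀ = Subgroup.centralizer {y} ⊓
      Subgroup.centralizer {g * ψ (Multiplicative.ofAdd 1, 1) * g⁻¹} := ⟨_, rfl⟩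
  rw [← hT0def] at hT0card hT0comm
  have hT0le : T₀ ≤ Subgroup.centralizer {y} := by rw [hT0def]; exact inf_le_left
  -- a Sylow `2`-subgroup of `T₀`
  have E' : Sylow 2 ↥T₀ := default
  have hE'card : Nat.card (E' : Subgroup ↥T₀) = 4 := by
    rw [Sylow.card_eq_multiplicity, hT0card, factorization_two_of_mod_eight _ (by omega)]
    norm_num
  obtain ⟨E₀, hE0def⟩ : ∃ E₀, E₀ = (E' : Subgroup ↥T₀).map T₀.subtype := ⟨_, rfl⟩
  have hE0card : Nat.card E₀ = 4 := by
    rw [hE0def, Subgroup.card_subtype, hE'card]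
  have hE0le : E₀ ≤ T₀ := by
    rw [hE0def]
    exact Subgroup.map_subtype_le _
  have hE0sq : ∀ x ∈ E₀, x * x = 1 :=
    sq_eq_one_of_two_group hsyl E₀ 2 (by rw [hE0card]; norm_num)
  -- the hypotheses of the abstract theorem
  obtain ⟨C, hCdef⟩ : ∃ C, C = Subgroup.centralizer {y} := ⟨_, rfl⟩
  rw [← hCdef] at hT0le ⊢
  have hE0C : E₀ ≤ C := hE0le.trans hT0le
  have hmemC : ∀ x : G, x ∈ C ↔ x * y = y * x := by
    intro x
    rw [hCdef, Subgroup.mem_centralizer_singleton_iff]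
  have hE4 : Nat.card (E₀.subgroupOf C) = 4 := by
    rw [Nat.card_congr (Subgroup.subgroupOfEquivOfLe hE0C).toEquiv, hE0card]
  have hE2 : ∀ x ∈ E₀.subgroupOf C, x * x = 1 := by
    intro x hx
    apply Subtype.ext
    exact hE0sq _ (Subgroup.mem_subgroupOf.1 hx)
  have hC8 : ¬ 8 ∣ Nat.card C := by
    intro h8
    obtain ⟨K₂, hK2⟩ := Sylow.exists_subgroup_card_pow_prime 2 (n := 3) (by norm_num; exact h8)
    have hS2card : Nat.card (K₂.map C.subtype) = 2 ^ 3 := by
      rw [Subgroup.card_subtype, hK2]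
    have h1 : IsPGroup 2 (K₂.map C.subtype) := IsPGroup.of_card hS2card
    obtain ⟨S, hS⟩ := h1.exists_le_sylow
    have hSeq : K₂.map C.subtype = (S : Subgroup G) := by
      apply Subgroup.eq_of_le_of_card_ge hS
      rw [(hsyl S).1, hS2card]
      norm_num
    have hyS : y ∈ (S : Subgroup G) := by
      rw [← (hsyl S).2.2, Subgroup.mem_centralizer_iff]
      intro x hx
      have hx' : x ∈ K₂.map C.subtype := by rw [hSeq]; exact hx
      have hxC : x ∈ C := Subgroup.map_subtype_le _ hx'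
      exact (hmemC x).1 hxC
    have hyy := (hsyl S).2.1 y hyS
    have h2 : orderOf y ∣ 2 := by
      apply orderOf_dvd_of_pow_eq_one
      rw [pow_two, hyy]
    rw [hy] at h2
    exact hp2 ((Nat.prime_dvd_prime_iff_eq hp Nat.prime_two).1 h2)
  have hTcomm : ∀ x ∈ T₀.subgroupOf C, ∀ x' ∈ T₀.subgroupOf C, x * x' = x' * x := by
    intro x hx x' hx'
    apply Subtype.ext
    exact hT0comm _ (Subgroup.mem_subgroupOf.1 hx) _ (Subgroup.mem_subgroupOf.1 hx')
  have hcent : ∀ t ∈ E₀.subgroupOf C, t ≠ 1 → ∀ c : ↥C, c * t = t * c → c ∈ T₀.subgroupOf C := by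
    intro t ht ht1 c hct
    have htE : (t : G) ∈ E₀ := Subgroup.mem_subgroupOf.1 ht
    have htT : (t : G) ∈ T₀ := hE0le htE
    have ht2 : (t : G) * (t : G) = 1 := hE0sq _ htE
    have ht1' : (t : G) ≠ 1 := fun h => ht1 (Subtype.ext h)
    obtain ⟨g', hg'⟩ := hinv _ ht2 ht1'
    have hty : y * (t : G) = (t : G) * y := ((hmemC _).1 t.2).symm
    rw [hg'] at hty
    obtain ⟨h1card, -⟩ := inf_centralizer_inv ψ hψ hrange Q p hp hp2 hL y hy g' hty
    rw [← hg'] at h1card
    have hle : T₀ ≤ Subgroup.centralizer {y} ⊓ Subgroup.centralizer {(t : G)} := by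
      intro x hx
      refine Subgroup.mem_inf.2 ⟨?_, ?_⟩
      · rw [Subgroup.mem_centralizer_singleton_iff]
        exact (hmemC x).1 (hT0le hx)
      · rw [Subgroup.mem_centralizer_singleton_iff]
        exact hT0comm x hx _ htT
    have heq := Subgroup.eq_of_le_of_card_ge hle (by rw [h1card, hT0card])
    rw [Subgroup.mem_subgroupOf, heq]
    refine Subgroup.mem_inf.2 ⟨?_, ?_⟩
    · rw [Subgroup.mem_centralizer_singleton_iff]
      exact (hmemC _).1 c.2
    · rw [Subgroup.mem_centralizer_singleton_iff]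
      exact congrArg Subtype.val hct
  have hno3 : ∀ w : ↥C, ¬ 3 ∣ orderOf w := by
    intro w h3w
    have h0 : orderOf w ≠ 0 := (orderOf_pos w).ne'
    have h1 := orderOf_pow_orderOf_div h0 h3w
    rw [← Subgroup.orderOf_coe] at h1
    apply h3 _ y h1 hy
    exact (hmemC _).1 (w ^ (orderOf w / 3)).2
  have htop := eq_top_of_klein (E₀.subgroupOf C) (T₀.subgroupOf C) hE4 hE2 hC8 hTcomm hcent hno3
  have hCT : C = T₀ := le_antisymm (Subgroup.subgroupOf_eq_top.1 htop) hT0le
  rw [hCT]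
  exact ⟨hT0card, hT0comm⟩

end abs2

end Cfsg.Agent.Lib.Helper5.ReeTori
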