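import Mathlib
import Cfsg.Agent.Lib.Helper5.PSL2KleinClasses
import Cfsg.Agent.Lib.Helper5.PSL2Klein

set_option autoImplicit false

/-!
A Klein four-subgroup of `PSL₂(q)`, `q ≡ 3, 5 (mod 8)`: it is self-centralising, its normaliser has
order `12` and permutes its three involutions cyclically.
-/

namespace Cfsg.Agent.Lib.Helper5.ReeNorm

open Matrix Cfsg.Agent.Lib.Helper5.SL2Cyclic Cfsg.Agent.Lib.Helper5.SL2Quat
  Cfsg.Agent.Lib.Helper5.SumTwoSq Cfsg.Agent.Lib.Helper5.SL2Four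
  Cfsg.Agent.Lib.Helper5.KleinPairs Cfsg.Agent.Lib.Helper5.PSL2Pairs
  Cfsg.Agent.Lib.Helper5.PairOrbits Cfsg.Agent.Lib.Helper5.PSL2KleinClasses

section
variable {F : Type*} [Field F] [Fintype F]

local notation "SL2" => Matrix.SpecialLinearGroup (Fin 2) F
local notation "PSL2" => Matrix.ProjectiveSpecialLinearGroup (Fin 2) F

/-- the number of Klein four-subgroups of `PSL₂(q)`, `q` odd -/
theorem card_klein_mul (hodd : Fintype.card F % 2 = 1) :
    12 * Nat.card {V : Subgroup PSL2 // IsKleinFour V} = Nat.card PSL2 := by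
  have h1 := two_mul_card_pairSet (F := F) hodd
  rw [card_pairSet, card_pairs] at h1
  omega

theorem klein_index_odd (hq : Fintype.card F % 8 = 3 ∨ Fintype.card F % 8 = 5)
    (U : Subgroup PSL2) (hU : IsKleinFour U) : ¬ 2 ∣ U.index := by
  obtain ⟨m, hm2, hm⟩ := Cfsg.Agent.Lib.Helper5.PSL2Klein.card_PSL2 hq
  have h1 := Subgroup.card_mul_index U
  rw [hU.card_four, hm] at h1
  have : U.index = m := by omega
  rw [this]
  exact hm2

omit [Fintype F] in
theorem klein_isPGroup (U : Subgroup PSL2) (hU : IsKleinFour U) : IsPGroup 2 U := by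
  apply IsPGroup.of_card (n := 2)
  rw [hU.card_four]
  norm_num

/-- Klein four-subgroups are the Sylow `2`-subgroups -/
noncomputable def kleinEquivSylow (hq : Fintype.card F % 8 = 3 ∨ Fintype.card F % 8 = 5) :
    {V : Subgroup PSL2 // IsKleinFour V} ≃ Sylow 2 PSL2 :=
  { toFun := fun V => IsPGroup.toSylow (p := 2) (klein_isPGroup V.1 V.2) (klein_index_odd hq V.1 V.2)
    invFun := fun P => ⟨P, Cfsg.Agent.Lib.Helper5.PSL2Klein.isKleinFour_sylow hq P⟩
    left_inv := fun V => Subtype.ext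
      (IsPGroup.toSylow_coe (p := 2) (klein_isPGroup V.1 V.2) (klein_index_odd hq V.1 V.2))
    right_inv := fun P => Sylow.ext (IsPGroup.toSylow_coe (p := 2) _ _) }

/-- the normaliser of a Klein four-subgroup has order `12` -/
theorem card_normalizer_klein (hq : Fintype.card F % 8 = 3 ∨ Fintype.card F % 8 = 5)
    (V : Subgroup PSL2) (hV : IsKleinFour V) :
    Nat.card (Subgroup.normalizer (V : Set PSL2)) = 12 := by
  have hodd : Fintype.card F % 2 = 1 := by omega
  have h1 := card_klein_mul (F := F) hodd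
  rw [Nat.card_congr (kleinEquivSylow hq)] at h1
  let P : Sylow 2 PSL2 := (klein_isPGroup V hV).toSylow (klein_index_odd hq V hV)
  have hP : (P : Subgroup PSL2) = V := IsPGroup.toSylow_coe _ _
  rw [Sylow.card_eq_index_normalizer P] at h1
  have h1' : 12 * (Subgroup.normalizer (V : Set PSL2)).index = Nat.card PSL2 := by
    rw [← hP]
    exact h1
  have h2 := Subgroup.card_mul_index (Subgroup.normalizer (V : Set PSL2))
  have h3 : 0 < (Subgroup.normalizer (V : Set PSL2)).index := Nat.pos_of_ne_zero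
    (Subgroup.index_ne_zero_of_finite)
  rw [← h1', mul_comm] at h2
  rw [mul_comm 12] at h2
  exact Nat.eq_of_mul_eq_mul_left h3 h2

/-- the data of a Klein four-subgroup of `PSL₂(q)`, `q ≡ 3 (mod 8)` -/
theorem exists_klein_data (hq : Fintype.card F % 8 = 3 ∨ Fintype.card F % 8 = 5) :
    ∃ (V : Subgroup PSL2) (s t h : PSL2), IsKleinFour V ∧
      (∀ z, z ∈ V ↔ z = 1 ∨ z = s ∨ z = t ∨ z = s * t) ∧
      s ≠ 1 ∧ t ≠ 1 ∧ s ≠ t ∧ s * s = 1 ∧ t * t = 1 ∧ t * s = s * t ∧
      (∀ g, g * s = s * g → g * t = t * g → g ∈ V) ∧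
      h * s * h⁻¹ = t ∧ h * t * h⁻¹ = s * t ∧
      Nat.card (Subgroup.normalizer (V : Set PSL2)) = 12 := by
  have hodd : Fintype.card F % 2 = 1 := by omega
  have h2 : (2 : F) ≠ 0 := two_ne_zero_of_odd hodd
  obtain ⟨p, r, hpr⟩ := exists_sq_add_sq hodd (-1 : F)
  have hmem := Pw_mem h2 p r hpr
  have hK := isKleinFour_kvP _ hmem
  refine ⟨kvP (Pw p r hpr) hmem, QuotientGroup.mk (qi F), QuotientGroup.mk (qj p r hpr),
    QuotientGroup.mk (hh h2 p r hpr), hK, fun z => mem_kvP _ hmem z, hmem.1.1, hmem.2.1,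
    fun h => hmem.2.2.2.1 h.symm, hmem.1.2, hmem.2.2.1, hmem.2.2.2.2, ?_, ?_, ?_,
    card_normalizer_klein hq _ hK⟩
  · intro g h1 h3
    have hs : g ∈ stab (Pw p r hpr) := by
      show conjP g (Pw p r hpr) = Pw p r hpr
      unfold conjP
      ext
      · show g * QuotientGroup.mk (qi F) * g⁻¹ = QuotientGroup.mk (qi F)
        rw [h1, mul_inv_cancel_right]
      · show g * QuotientGroup.mk (qj p r hpr) * g⁻¹ = QuotientGroup.mk (qj p r hpr)
        rw [h3, mul_inv_cancel_right]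
    rw [stab_Pw h2] at hs
    exact hs
  · exact conj_mk _ _ _ (hh_qi h2 p r hpr)
  · rw [← QuotientGroup.mk_mul]
    exact conj_mk _ _ _ (hh_qj h2 p r hpr)

end

end Cfsg.Agent.Lib.Helper5.ReeNorm
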