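import Mathlib
import Cfsg.Agent.S1244
import Cfsg.Agent.Lib.Helper5.ReeCent.NormAbs

set_option autoImplicit false

/-!
Abstract form of the computation of the normaliser of a Sylow `2`-subgroup of a Ree group, second
part: the order of the normaliser.
-/

namespace Cfsg.Agent.Lib.Helper5.ReeNorm

section main2

variable {G L : Type*} [Group G] [Group L]
  (ψ : Multiplicative (ZMod 2) × L →* G) (V : Subgroup L)

/-- the centraliser of `a` in the normaliser of `E` -/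
def CC : Subgroup G := (Subgroup.prod ⊤ (Subgroup.normalizer (V : Set L))).map ψ

theorem mem_CC (x : G) :
    x ∈ CC ψ V ↔ ∃ z : Multiplicative (ZMod 2), ∃ y ∈ Subgroup.normalizer (V : Set L),
      ψ (z, y) = x := by
  constructor
  · rintro ⟨⟨z, v⟩, hzv, rfl⟩
    exact ⟨z, v, (Subgroup.mem_prod.1 hzv).2, rfl⟩
  · rintro ⟨z, v, hv, rfl⟩
    exact ⟨(z, v), Subgroup.mem_prod.2 ⟨Subgroup.mem_top _, hv⟩, rfl⟩

variable (hψ : Function.Injective ψ)

include hψ in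
theorem card_CC (hN : Nat.card (Subgroup.normalizer (V : Set L)) = 12) :
    Nat.card (CC ψ V) = 24 := by
  unfold CC
  rw [Subgroup.card_map_of_injective hψ, Nat.card_congr (Subgroup.prodEquiv _ _).toEquiv,
    Nat.card_prod, Subgroup.card_top, card_mult_zmod_two, hN]

include hψ in
theorem CC_le : CC ψ V ≤ Subgroup.normalizer (EE ψ V : Set G) := by
  intro x hx
  obtain ⟨z, y, hy, rfl⟩ := (mem_CC ψ V x).1 hx
  exact (mem_normalizer_EE ψ V hψ z y).2 hy

variable (hrange : ψ.range = Subgroup.centralizer {ψ (Multiplicative.ofAdd 1, 1)})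

include hψ hrange in
theorem mem_CC_iff (n : G) (hn : n ∈ Subgroup.normalizer (EE ψ V : Set G)) :
    n ∈ CC ψ V ↔ n * ψ (Multiplicative.ofAdd 1, 1) = ψ (Multiplicative.ofAdd 1, 1) * n := by
  constructor
  · intro hx
    obtain ⟨z, y, hy, rfl⟩ := (mem_CC ψ V n).1 hx
    have h1 : ψ (z, y) ∈ ψ.range := ⟨_, rfl⟩
    rw [hrange, Subgroup.mem_centralizer_iff] at h1
    exact (h1 _ (Set.mem_singleton _)).symm
  · intro hc
    have h1 : n ∈ ψ.range := by
      rw [hrange, Subgroup.mem_centralizer_iff]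
      intro x hx
      rw [Set.mem_singleton_iff] at hx
      subst hx
      exact hc.symm
    obtain ⟨⟨z, y⟩, rfl⟩ := h1
    exact (mem_CC ψ V _).2 ⟨z, y, (mem_normalizer_EE ψ V hψ z y).1 hn, rfl⟩

variable (s t h : L) (hK : IsKleinFour V)
  (hV : ∀ z, z ∈ V ↔ z = 1 ∨ z = s ∨ z = t ∨ z = s * t)
  (hs1 : s ≠ 1) (ht1 : t ≠ 1) (hst : s ≠ t) (hss : s * s = 1) (htt : t * t = 1)
  (hts : t * s = s * t)
  (hC : ∀ g, g * s = s * g → g * t = t * g → g ∈ V)
  (hhs : h * s * h⁻¹ = t) (hht : h * t * h⁻¹ = s * t)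
  (hN : Nat.card (Subgroup.normalizer (V : Set L)) = 12)
  (hT : ∀ x ∈ EE ψ V, x ≠ 1 →
    ∃ n ∈ Subgroup.normalizer (EE ψ V : Set G), n * x * n⁻¹ ∈ RR ψ V)

include hψ hV hss htt hts hhs hht hT in
theorem exists_conj_b (x : G) (hx : x ∈ EE ψ V) (hx1 : x ≠ 1) :
    ∃ n ∈ Subgroup.normalizer (EE ψ V : Set G), n * x * n⁻¹ = ψ (1, s) := by
  obtain ⟨n₁, hn₁, hR⟩ := hT x hx hx1
  obtain ⟨v, hv, e⟩ := (mem_RR ψ V _).1 hR
  have hhN := h_mem_normalizer V s t h hV hss htt hts hhs hht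
  have hhst : h * (s * t) * h⁻¹ = s := by
    have : h * (s * t) * h⁻¹ = (h * s * h⁻¹) * (h * t * h⁻¹) := by group
    rw [this, hhs, hht, ← mul_assoc, hts, mul_assoc, htt, mul_one]
  have hi_t : h⁻¹ * t * (h⁻¹)⁻¹ = s := by rw [← hhs]; group
  rcases (hV v).1 hv with rfl | rfl | rfl | rfl
  · exfalso
    apply hx1
    have e0 : ψ ((1 : Multiplicative (ZMod 2)), (1 : L)) = 1 := map_one ψ
    rw [e0] at e
    have : x = n₁⁻¹ * (n₁ * x * n₁⁻¹) * n₁ := by group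
    rw [this, ← e]
    group
  · exact ⟨n₁, hn₁, e.symm⟩
  · refine ⟨ψ (1, h⁻¹) * n₁, Subgroup.mul_mem _
      ((mem_normalizer_EE ψ V hψ 1 h⁻¹).2 (Subgroup.inv_mem _ hhN)) hn₁, ?_⟩
    have : ψ (1, h⁻¹) * n₁ * x * (ψ (1, h⁻¹) * n₁)⁻¹ =
        ψ (1, h⁻¹) * (n₁ * x * n₁⁻¹) * (ψ (1, h⁻¹))⁻¹ := by group
    rw [this, ← e, conj_psi, hi_t]
  · refine ⟨ψ (1, h) * n₁, Subgroup.mul_mem _
      ((mem_normalizer_EE ψ V hψ 1 h).2 hhN) hn₁, ?_⟩
    have : ψ (1, h) * n₁ * x * (ψ (1, h) * n₁)⁻¹ =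
        ψ (1, h) * (n₁ * x * n₁⁻¹) * (ψ (1, h))⁻¹ := by group
    rw [this, ← e, conj_psi, hhst]

include hψ hV hss htt hts hhs hht hT in
theorem orbit_a (x : G) :
    x ∈ {x : G | x ∈ EE ψ V ∧ x ≠ 1} ↔
      ∃ n ∈ Subgroup.normalizer (EE ψ V : Set G),
        n * ψ (Multiplicative.ofAdd 1, 1) * n⁻¹ = x := by
  constructor
  · rintro ⟨hx, hx1⟩
    obtain ⟨n₁, hn₁, e₁⟩ := exists_conj_b ψ V hψ s t h hV hss htt hts hhs hht hT x hx hx1
    obtain ⟨n₂, hn₂, e₂⟩ := exists_conj_b ψ V hψ s t h hV hss htt hts hhs hht hT _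
      (a_mem_EE ψ V) (a_ne_one ψ hψ)
    refine ⟨n₁⁻¹ * n₂, Subgroup.mul_mem _ (Subgroup.inv_mem _ hn₁) hn₂, ?_⟩
    have : n₁⁻¹ * n₂ * ψ (Multiplicative.ofAdd 1, 1) * (n₁⁻¹ * n₂)⁻¹ =
        n₁⁻¹ * (n₂ * ψ (Multiplicative.ofAdd 1, 1) * n₂⁻¹) * n₁ := by group
    rw [this, e₂, ← e₁]
    group
  · rintro ⟨n, hn, rfl⟩
    refine ⟨(Subgroup.mem_normalizer_iff.1 hn _).1 (a_mem_EE ψ V), ?_⟩
    intro h1
    apply a_ne_one ψ hψ
    have : ψ (Multiplicative.ofAdd 1, 1) =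
        n⁻¹ * (n * ψ (Multiplicative.ofAdd 1, 1) * n⁻¹) * n := by group
    rw [this, h1]
    group

include hψ hrange hK hV hss htt hts hhs hht hN hT in
theorem card_normalizer_EE :
    Nat.card (Subgroup.normalizer (EE ψ V : Set G)) = 168 := by
  have h1 := card_of_conj_transitive (Subgroup.normalizer (EE ψ V : Set G)) (CC ψ V)
    (CC_le ψ V hψ) (ψ (Multiplicative.ofAdd 1, 1)) {x : G | x ∈ EE ψ V ∧ x ≠ 1}
    (orbit_a ψ V hψ s t h hV hss htt hts hhs hht hT)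
    (fun n hn => mem_CC_iff ψ V hψ hrange n hn)
  have hX : Nat.card {x : G | x ∈ EE ψ V ∧ x ≠ 1} = 7 := by
    rw [Nat.card_coe_set_eq]
    have e1 : {x : G | x ∈ EE ψ V ∧ x ≠ 1} = ((EE ψ V : Subgroup G) : Set G) \ {1} := by
      ext x
      simp only [Set.mem_ofPred_eq, Set.mem_sdiff, SetLike.mem_coe, Set.mem_singleton_iff]
    have e2 : ((EE ψ V : Subgroup G) : Set G).ncard = 8 := by
      rw [← Nat.card_coe_set_eq]
      exact card_EE ψ V hψ hK
    rw [e1, Set.ncard_sdiff_singleton_of_mem (one_mem _), e2]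
  rw [h1, hX, card_CC ψ V hψ hN]

end main2

section main3

variable {G L : Type*} [Group G] [Group L] [Finite G]
  (ψ : Multiplicative (ZMod 2) × L →* G) (V : Subgroup L)
  (hψ : Function.Injective ψ)
  (hrange : ψ.range = Subgroup.centralizer {ψ (Multiplicative.ofAdd 1, 1)})
  (s t h : L) (hK : IsKleinFour V)
  (hV : ∀ z, z ∈ V ↔ z = 1 ∨ z = s ∨ z = t ∨ z = s * t)
  (hss : s * s = 1) (htt : t * t = 1)
  (hts : t * s = s * t)
  (hC : ∀ g, g * s = s * g → g * t = t * g → g ∈ V)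
  (hhs : h * s * h⁻¹ = t) (hht : h * t * h⁻¹ = s * t)
  (hN : Nat.card (Subgroup.normalizer (V : Set L)) = 12)
  (hidx : ∀ H : Subgroup G, H.index ≠ 2)

include hψ hK hidx in
/-- fusion of the involutions of a Sylow `2`-subgroup, from the index two theorem -/
theorem exists_conj_mem_RR (S : Sylow 2 G) (hS : (S : Subgroup G) = EE ψ V)
    (x : G) (hx : x ∈ EE ψ V) (hx1 : x ≠ 1) :
    ∃ n ∈ Subgroup.normalizer (EE ψ V : Set G), n * x * n⁻¹ ∈ RR ψ V := by
  have hmem : ∀ y : G, y ∈ (S : Subgroup G) ↔ y ∈ EE ψ V := fun y => by rw [hS]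
  have hS' : IsMulCommutative (S : Subgroup G) :=
    ⟨⟨fun a b => Subtype.ext
      (EE_comm ψ V hK a b ((hmem _).1 a.2) ((hmem _).1 b.2))⟩⟩
  have hcard : Nat.card (S : Subgroup G) = 8 := by
    rw [hS]
    exact card_EE ψ V hψ hK
  have hRS : RR ψ V ≤ (S : Subgroup G) := by
    rw [hS]
    exact RR_le_EE ψ V
  have hRcard := card_RR ψ V hψ hK
  have hx2 : x ^ 2 = 1 := by
    rw [pow_two]
    exact EE_sq ψ V hK x hx
  have hord : orderOf x = 2 := orderOf_eq_prime hx2 hx1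
  have r1 : Cfsg.PRankLE 2 3 (S : Subgroup G) := by
    intro A _ _
    have := Subgroup.card_le_card_group A
    rw [hcard] at this
    exact this
  have r2 : ¬ Cfsg.PRankLE 2 2 (S : Subgroup G) := by
    intro hcon
    have := hcon ⊤ ⟨⟨fun a b => Subtype.ext (Subtype.ext
      (EE_comm ψ V hK a b ((hmem _).1 a.1.2) ((hmem _).1 b.1.2)))⟩⟩
      (fun a _ => by
        apply Subtype.ext
        show (a : G) ^ 2 = 1
        rw [pow_two]
        exact EE_sq ψ V hK a ((hmem _).1 a.2))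
    rw [Subgroup.card_top, hcard] at this
    norm_num at this
  have r3 : Cfsg.PRankLE 2 2 (RR ψ V) := by
    intro A _ _
    have := Subgroup.card_le_card_group A
    rw [hRcard] at this
    exact this
  have r4 : ¬ Cfsg.PRankLE 2 1 (RR ψ V) := by
    intro hcon
    have hR2 : ∀ a : G, a ∈ RR ψ V → a ∈ EE ψ V := fun a ha => RR_le_EE ψ V ha
    have := hcon ⊤ ⟨⟨fun a b => Subtype.ext (Subtype.ext
      (EE_comm ψ V hK a b (hR2 _ a.1.2) (hR2 _ b.1.2)))⟩⟩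
      (fun a _ => by
        apply Subtype.ext
        show (a : G) ^ 2 = 1
        rw [pow_two]
        exact EE_sq ψ V hK a (hR2 _ a.2))
    rw [Subgroup.card_top, hRcard] at this
    norm_num at this
  obtain ⟨n, hn, hnR⟩ := Cfsg.Agent.S1244.result hidx S hS' 3 (by norm_num) ⟨r1, r2⟩ (RR ψ V) hRS
    ⟨r3, Or.inr r4⟩ x hord ((hmem x).2 hx)
  refine ⟨n, ?_, hnR⟩
  rw [← hS]
  exact hn

include hψ hrange hK hV hss htt hts hC hhs hht hN hidx in
/-- a Sylow `2`-subgroup is self-centralising and its normaliser has order `168` -/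
theorem abs_main (S : Sylow 2 G) (hS : (S : Subgroup G) = EE ψ V) :
    Subgroup.centralizer ((S : Subgroup G) : Set G) = S ∧
      Nat.card (Subgroup.normalizer ((S : Subgroup G) : Set G)) = 168 := by
  rw [hS]
  exact ⟨centralizer_EE ψ V hψ hrange s t hK hV hC,
    card_normalizer_EE ψ V hψ hrange s t h hK hV hss htt hts hhs hht hN
      (exists_conj_mem_RR ψ V hψ hK hidx S hS)⟩

end main3

end Cfsg.Agent.Lib.Helper5.ReeNorm
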