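import Mathlib
import Cfsg.Prelude.Def_ChevStructure
import Cfsg.Prelude.Def_LieTwisted
import Cfsg.Agent.Lib.Helper5.ReeCent.Syl
import Cfsg.Agent.Lib.Helper5.ReeCent.KleinL
import Cfsg.Agent.Lib.Helper5.ReeCent.NormAbs2

set_option autoImplicit false

/-!
The Sylow `2`-subgroups of the Ree groups `²G₂(q)`, `q > 3`, are self-centralising and their
normalisers have order `168`.
-/

namespace Cfsg.Agent.Lib.Helper5.ReeCent

open Cfsg Cfsg.Lie Cfsg.Agent.Lib.Helper5.ChevSym Cfsg.Agent.Lib.Helper5.ChevSymP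
  Cfsg.Agent.Lib.Helper5.ChevStruct Cfsg.Agent.Lib.Helper5.Ree Cfsg.Agent.Lib.Helper5.PSL2Solv
  Cfsg.Agent.Lib.Helper5.ReeNorm

theorem no_index_two {G : Type*} [Group G] [IsSimpleGroup G]
    (hfac : (Nat.card G).factorization 2 = 3) (H : Subgroup G) : H.index ≠ 2 := by
  intro h2
  have hn := Subgroup.normal_of_index_eq_two h2
  rcases IsSimpleGroup.eq_bot_or_eq_top_of_normal H hn with rfl | rfl
  · rw [Subgroup.index_bot] at h2
    rw [h2] at hfac
    have : (2 : ℕ).factorization 2 = 1 := Nat.Prime.factorization_self Nat.prime_two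
    omega
  · rw [Subgroup.index_top] at h2
    norm_num at h2

theorem ree_sylow_two_normalizer {K : Type*} [Field K] [Fintype K] {m : ℕ} (hm : 1 ≤ m)
    (hK : Fintype.card K = 3 ^ (2 * m + 1)) (S : Sylow 2 ↥(twistedG2 K (3 ^ m))) :
    Subgroup.centralizer ((S : Subgroup ↥(twistedG2 K (3 ^ m))) : Set ↥(twistedG2 K (3 ^ m))) = S ∧
      Nat.card (Subgroup.normalizer
        ((S : Subgroup ↥(twistedG2 K (3 ^ m))) : Set ↥(twistedG2 K (3 ^ m)))) = 168 := by
  have := charP_of_card hK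
  have hq := pow_card_eq hK
  obtain ⟨Φ, hu, hl⟩ := exists_hom m hq
  obtain ⟨V, s, t, h, hKl, hV, hs1, ht1, hst, hss, htt, hts, hC, hhs, hht, hN⟩ :=
    exists_klein_data (F := K) (Or.inl (card_mod_eight m hK))
  have hfac := card_twisted_factorization m hK
  have : IsSimpleGroup ↥(twistedG2 K (3 ^ m)) := by
    have := (fixG_simple m hq hK hm).1
    exact (MulEquiv.subgroupCongr (twisted_eq_fixG m hq)).isSimpleGroup
  have hidx := no_index_two (G := ↥(twistedG2 K (3 ^ m))) hfac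
  obtain ⟨ψ, hψdef⟩ : ∃ ψ, ψ = psiHom m hq Φ hu hl := ⟨_, rfl⟩
  have hinj : Function.Injective ψ := by
    rw [hψdef]
    exact psiHom_injective m hq Φ hu hl
  have ha : ψ (Multiplicative.ofAdd 1, 1) = aG m hq := by
    rw [hψdef, psiHom_apply, alphaHom_one, map_one, mul_one]
  have hrange : ψ.range = Subgroup.centralizer {aG m hq} := by
    rw [hψdef]
    exact psiHom_range m hq Φ hu hl
  have hE8 := card_EE ψ V hinj hKl
  let P0 : Sylow 2 ↥(twistedG2 K (3 ^ m)) :=
    Sylow.ofCard (EE ψ V) (by rw [hE8, hfac]; norm_num)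
  obtain ⟨g, hg⟩ := MulAction.exists_smul_eq ↥(twistedG2 K (3 ^ m)) P0 S
  obtain ⟨ψ', hψ'⟩ : ∃ ψ', ψ' = (MulAut.conj g).toMonoidHom.comp ψ := ⟨_, rfl⟩
  have happ : ∀ w, ψ' w = g * ψ w * g⁻¹ := by
    intro w
    rw [hψ']
    rfl
  have hinj' : Function.Injective ψ' := by
    rw [hψ']
    exact (MulAut.conj g).injective.comp hinj
  have hS : (S : Subgroup ↥(twistedG2 K (3 ^ m))) = EE ψ' V := by
    rw [← hg, Sylow.coe_subgroup_smul, Sylow.coe_ofCard]
    unfold EE
    rw [hψ', ← Subgroup.map_map]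
    rfl
  have hrange' : ψ'.range = Subgroup.centralizer {ψ' (Multiplicative.ofAdd 1, 1)} := by
    ext x
    rw [Subgroup.mem_centralizer_iff]
    constructor
    · rintro ⟨w, rfl⟩ y hy
      rw [Set.mem_singleton_iff] at hy
      subst hy
      have hw : ψ (Multiplicative.ofAdd 1, 1) * ψ w = ψ w * ψ (Multiplicative.ofAdd 1, 1) := by
        have h1 : ψ w ∈ ψ.range := ⟨w, rfl⟩
        rw [hrange, Subgroup.mem_centralizer_iff] at h1
        rw [ha]
        exact h1 _ (Set.mem_singleton _)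
      rw [happ, happ]
      calc g * ψ (Multiplicative.ofAdd 1, 1) * g⁻¹ * (g * ψ w * g⁻¹)
          = g * (ψ (Multiplicative.ofAdd 1, 1) * ψ w) * g⁻¹ := by group
        _ = g * (ψ w * ψ (Multiplicative.ofAdd 1, 1)) * g⁻¹ := by rw [hw]
        _ = g * ψ w * g⁻¹ * (g * ψ (Multiplicative.ofAdd 1, 1) * g⁻¹) := by group
    · intro hx
      have h1 := hx _ (Set.mem_singleton _)
      rw [happ, ha] at h1
      have h2 : g⁻¹ * x * g ∈ ψ.range := by
        rw [hrange, Subgroup.mem_centralizer_iff]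
        intro y hy
        rw [Set.mem_singleton_iff] at hy
        subst hy
        calc aG m hq * (g⁻¹ * x * g)
            = g⁻¹ * (g * aG m hq * g⁻¹ * x) * g := by group
          _ = g⁻¹ * (x * (g * aG m hq * g⁻¹)) * g := by rw [h1]
          _ = g⁻¹ * x * g * aG m hq := by group
      obtain ⟨w, hw⟩ := h2
      refine ⟨w, ?_⟩
      rw [happ, hw]
      group
  exact abs_main ψ' V hinj' hrange' s t h hKl hV hss htt hts hC hhs hht hN hidx S hS

end Cfsg.Agent.Lib.Helper5.ReeCent
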