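import Mathlib
import Cfsg.Prelude.Def_ChevStructure
import Cfsg.Prelude.Def_LieTwisted
import Cfsg.Agent.Lib.Helper5.ReeCent.Norm
import Cfsg.Agent.Lib.Helper5.ReeCent.CentE1
import Cfsg.Agent.Lib.Helper5.ReeCent.CentE2Abs
import Cfsg.Agent.Lib.Helper5.PSL2Cent.PSLCent
import Cfsg.Agent.Lib.Helper5.Ree.SylowTI

set_option autoImplicit false

/-!
The centraliser in `²G₂(q)` of an element of prime order dividing `(q + 1) / 4`.
-/

namespace Cfsg.Agent.Lib.Helper5.ReeTori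

open Cfsg Cfsg.Lie Cfsg.Agent.Lib.Helper5.ChevSym Cfsg.Agent.Lib.Helper5.ChevSymP
  Cfsg.Agent.Lib.Helper5.ChevStruct Cfsg.Agent.Lib.Helper5.Ree Cfsg.Agent.Lib.Helper5.PSL2Solv
  Cfsg.Agent.Lib.Helper5.ReeCent Cfsg.Agent.Lib.Helper5.ReeNorm

/-- the structure of the Ree group around an involution -/
theorem exists_psi_data {K : Type*} [Field K] [Fintype K] {m : ℕ} (hm : 1 ≤ m)
    (hK : Fintype.card K = 3 ^ (2 * m + 1)) :
    ∃ ψ : Multiplicative (ZMod 2) × Matrix.ProjectiveSpecialLinearGroup (Fin 2) K →*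
        ↥(twistedG2 K (3 ^ m)),
      Function.Injective ψ ∧ ψ.range = Subgroup.centralizer {ψ (Multiplicative.ofAdd 1, 1)} ∧
      (∀ x : ↥(twistedG2 K (3 ^ m)), x * x = 1 → x ≠ 1 →
        ∃ g, x = g * ψ (Multiplicative.ofAdd 1, 1) * g⁻¹) ∧
      (∀ S : Sylow 2 ↥(twistedG2 K (3 ^ m)), Nat.card S = 8 ∧ (∀ x ∈ S, x * x = 1) ∧
        Subgroup.centralizer ((S : Subgroup ↥(twistedG2 K (3 ^ m))) : Set ↥(twistedG2 K (3 ^ m)))
          = S) := by
  have := charP_of_card hK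
  have hq := pow_card_eq hK
  obtain ⟨Φ, hu, hl⟩ := exists_hom m hq
  obtain ⟨V, s, t, h, hKl, hV, hs1, ht1, hst, hss, htt, hts, hC, hhs, hht, hN⟩ :=
    exists_klein_data (F := K) (Or.inl (card_mod_eight m hK))
  have hfac := card_twisted_factorization m hK
  have : IsSimpleGroup ↥(twistedG2 K (3 ^ m)) := by
    have := (fixG_simple m hq hK hm).1
    exact (MulEquiv.subgroupCongr (twisted_eq_fixG m hq)).isSimpleGroup
  have hidx := no_index_two (G := ↥(twistedG2 K (3 ^ m))) hfac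
  obtain ⟨ψ, hψdef⟩ : ∃ ψ, ψ = psiHom m hq Φ hu hl := ⟨_, rfl⟩
  have hinj : Function.Injective ψ := by
    rw [hψdef]
    exact psiHom_injective m hq Φ hu hl
  have ha : ψ (Multiplicative.ofAdd 1, 1) = aG m hq := by
    rw [hψdef, psiHom_apply, alphaHom_one, map_one, mul_one]
  have hrange : ψ.range = Subgroup.centralizer {ψ (Multiplicative.ofAdd 1, 1)} := by
    rw [ha, hψdef]
    exact psiHom_range m hq Φ hu hl
  have hE8 := card_EE ψ V hinj hKl
  let P0 : Sylow 2 ↥(twistedG2 K (3 ^ m)) :=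
    Sylow.ofCard (EE ψ V) (by rw [hE8, hfac]; norm_num)
  -- every Sylow `2`-subgroup is a conjugate of `E`
  have key : ∀ S : Sylow 2 ↥(twistedG2 K (3 ^ m)), ∃ g : ↥(twistedG2 K (3 ^ m)),
      (S : Subgroup ↥(twistedG2 K (3 ^ m))) = EE ((MulAut.conj g).toMonoidHom.comp ψ) V := by
    intro S
    obtain ⟨g, hg⟩ := MulAction.exists_smul_eq ↥(twistedG2 K (3 ^ m)) P0 S
    refine ⟨g, ?_⟩
    rw [← hg, Sylow.coe_subgroup_smul, Sylow.coe_ofCard]
    unfold EE
    rw [← Subgroup.map_map]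
    rfl
  refine ⟨ψ, hinj, hrange, ?_, ?_⟩
  · intro x hx2 hx1
    have hord : orderOf x = 2 := orderOf_eq_prime (by rw [pow_two]; exact hx2) hx1
    have hZ : IsPGroup 2 (Subgroup.zpowers x) := by
      apply IsPGroup.of_card (n := 1)
      rw [Nat.card_zpowers, hord, pow_one]
    obtain ⟨S, hS⟩ := hZ.exists_le_sylow
    have hxS : x ∈ (S : Subgroup ↥(twistedG2 K (3 ^ m))) := hS (Subgroup.mem_zpowers x)
    obtain ⟨g, hg⟩ := key S
    have hinj' : Function.Injective ((MulAut.conj g).toMonoidHom.comp ψ) :=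
      (MulAut.conj g).injective.comp hinj
    have hT := exists_conj_mem_RR ((MulAut.conj g).toMonoidHom.comp ψ) V hinj' hKl hidx S hg
    rw [hg] at hxS
    obtain ⟨n, -, e⟩ := (orbit_a ((MulAut.conj g).toMonoidHom.comp ψ) V hinj' s t h hV hss htt hts
      hhs hht hT x).1 ⟨hxS, hx1⟩
    refine ⟨n * g, ?_⟩
    rw [← e]
    show n * (g * ψ (Multiplicative.ofAdd 1, 1) * g⁻¹) * n⁻¹ = _
    group
  · intro S
    obtain ⟨h1, h2⟩ := sylow_two m hK hq Φ hu hl S
    exact ⟨h1, h2, (ree_sylow_two_normalizer hm hK S).1⟩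

section arith

/-- arithmetic of a prime divisor of `(q + 1) / 4` -/
theorem prime_facts (q p : ℕ) (hq8 : q % 8 = 3) (hq3 : 3 ∣ q) (hp : p.Prime)
    (hpd : p ∣ (q + 1) / 4) :
    p ∣ q + 1 ∧ p ≠ 2 ∧ ¬ p ∣ q ∧ ¬ p ∣ q - 1 ∧ ¬ p ∣ q ^ 2 * (q * (q - 1) + 1) := by
  have h4 : 4 ∣ q + 1 := by omega
  have hd : p ∣ q + 1 := dvd_trans hpd (Nat.div_dvd_of_dvd h4)
  have hp2 : p ≠ 2 := by
    rintro rfl
    have : (q + 1) / 4 % 2 = 1 := by omega
    omega
  have hpq : ¬ p ∣ q := by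
    intro h
    have := (Nat.dvd_add_right h).1 hd
    exact hp.one_lt.ne' (Nat.dvd_one.1 this)
  have hpq1 : ¬ p ∣ q - 1 := by
    intro h
    have e : q + 1 = (q - 1) + 2 := by omega
    rw [e] at hd
    have := (Nat.dvd_add_right h).1 hd
    exact hp2 ((Nat.prime_dvd_prime_iff_eq hp Nat.prime_two).1 this)
  refine ⟨hd, hp2, hpq, hpq1, ?_⟩
  intro h
  rcases (Nat.Prime.dvd_mul hp).1 h with h | h
  · exact hpq (hp.dvd_of_dvd_pow h)
  · obtain ⟨j, hj⟩ : ∃ j, q = j + 2 := ⟨q - 2, by omega⟩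
    have e : q * (q - 1) + 1 = (q + 1) * j + 3 := by
      rw [hj]
      have : j + 2 - 1 = j + 1 := by omega
      rw [this]
      ring
    rw [e] at h
    have h3 := (Nat.dvd_add_right (dvd_mul_of_dvd_left hd j)).1 h
    have hp3 : p = 3 := (Nat.prime_dvd_prime_iff_eq hp Nat.prime_three).1 h3
    rw [hp3] at hpq
    exact hpq hq3

end arith

section concrete

variable {K : Type*} [Field K] [CharP K 3] [Fintype K] (m : ℕ)
  (hK : Fintype.card K = 3 ^ (2 * m + 1))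

include hK in
/-- an element of order `3` does not commute with an element of prime order not dividing
`q (q - 1)` -/
theorem no_three_commute (p : ℕ) (hp : p.Prime) (hpq : ¬ p ∣ 3 ^ (2 * m + 1))
    (hpq1 : ¬ p ∣ 3 ^ (2 * m + 1) - 1) (w y : ↥(twistedG2 K (3 ^ m))) (hw : orderOf w = 3)
    (hy : orderOf y = p) : w * y ≠ y * w := by
  intro hcomm
  have hq := pow_card_eq hK
  have hwf : (w : GL chevG2.Idx K) ∈ fixG m := twisted_le_fixG m hq w.2
  have hyf : (y : GL chevG2.Idx K) ∈ fixG m := twisted_le_fixG m hq y.2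
  obtain ⟨w', hw'⟩ : ∃ w' : ↥(fixG (K := K) m), (w' : GL chevG2.Idx K) = (w : GL chevG2.Idx K) :=
    ⟨⟨_, hwf⟩, rfl⟩
  obtain ⟨y', hy'⟩ : ∃ y' : ↥(fixG (K := K) m), (y' : GL chevG2.Idx K) = (y : GL chevG2.Idx K) :=
    ⟨⟨_, hyf⟩, rfl⟩
  have how' : orderOf w' = 3 := by
    rw [← Subgroup.orderOf_coe, hw', Subgroup.orderOf_coe, hw]
  have hoy' : orderOf y' = p := by
    rw [← Subgroup.orderOf_coe, hy', Subgroup.orderOf_coe, hy]
  have hcomm' : w' * y' = y' * w' := by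
    apply Subtype.ext
    show (w' : GL chevG2.Idx K) * (y' : GL chevG2.Idx K) =
      (y' : GL chevG2.Idx K) * (w' : GL chevG2.Idx K)
    rw [hw', hy']
    exact congrArg Subtype.val hcomm
  have hZ : IsPGroup 3 (Subgroup.zpowers w') := by
    apply IsPGroup.of_card (n := 1)
    rw [Nat.card_zpowers, how', pow_one]
  obtain ⟨P, hP⟩ := hZ.exists_le_sylow
  have hwP : w' ∈ (P : Subgroup ↥(fixG (K := K) m)) := hP (Subgroup.mem_zpowers w')
  obtain ⟨g, hg⟩ := MulAction.exists_smul_eq ↥(fixG (K := K) m) (sylU m hq hK) P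
  rw [← hg, Sylow.coe_subgroup_smul, Subgroup.mem_smul_pointwise_iff_exists, sylU_coe] at hwP
  obtain ⟨s, hs, es⟩ := hwP
  rw [MulAut.smul_def, MulAut.conj_apply] at es
  have hs1 : s ≠ 1 := by
    rintro rfl
    rw [mul_one, mul_inv_cancel] at es
    rw [← es, orderOf_one] at how'
    norm_num at how'
  have ek : s = (g⁻¹ * y' * g) * s * (g⁻¹ * y' * g)⁻¹ := by
    have e1 : (g⁻¹ * y' * g) * s * (g⁻¹ * y' * g)⁻¹ = g⁻¹ * (y' * (g * s * g⁻¹) * y'⁻¹) * g := by
      group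
    rw [e1, es, ← hcomm', mul_inv_cancel_right, ← es]
    group
  have hkB : ((g⁻¹ * y' * g : ↥(fixG (K := K) m)) : GL chevG2.Idx K)
      ∈ chevG2.borelSubgroup K ⊓ fixG m := by
    refine ti_aux m hq _ (s : GL chevG2.Idx K) (s : GL chevG2.Idx K) (g⁻¹ * y' * g).2
      ((mem_U1 m s).1 hs) ((mem_U1 m s).1 hs) ?_ ?_
    · have := congrArg (fun y : ↥(fixG (K := K) m) => (y : GL chevG2.Idx K)) ek
      exact this
    · intro h
      exact hs1 (Subtype.ext h)
  have hok : orderOf ((g⁻¹ * y' * g : ↥(fixG (K := K) m)) : GL chevG2.Idx K) = p := by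
    rw [Subgroup.orderOf_coe, ← hoy']
    have := orderOf_injective (MulAut.conj g⁻¹).toMonoidHom (MulAut.conj g⁻¹).injective y'
    rw [← this]
    congr 1
  have hdvd := Subgroup.orderOf_dvd_natCard _ hkB
  rw [hok, card_borel_fix m hq, hK] at hdvd
  rcases (Nat.Prime.dvd_mul hp).1 hdvd with h | h
  · exact hpq (hp.dvd_of_dvd_pow h)
  · exact hpq1 h

end concrete

/-- the index of the centraliser of an involution, abstractly -/
theorem index_of_card (q I : ℕ) (hq : 2 ≤ q)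
    (h : q * (q ^ 2 - 1) * I = q ^ 3 * (q - 1) * (q ^ 3 + 1)) :
    I = q ^ 2 * (q * (q - 1) + 1) := by
  obtain ⟨j, hj⟩ : ∃ j, q = j + 2 := ⟨q - 2, by omega⟩
  subst hj
  have e1 : (j + 2) ^ 2 - 1 = (j + 1) * (j + 3) := by
    have : (j + 2) ^ 2 = (j + 1) * (j + 3) + 1 := by ring
    rw [this]
    omega
  have e2 : j + 2 - 1 = j + 1 := by omega
  rw [e1, e2] at h
  rw [e2]
  have hpos : 0 < (j + 2) * ((j + 1) * (j + 3)) := by positivity
  apply Nat.eq_of_mul_eq_mul_left hpos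
  rw [h]
  ring

/-- the centraliser of an element of prime order dividing `(q + 1) / 4` -/
theorem centralizer_quarter_prime {K : Type*} [Field K] [Fintype K] {m : ℕ} (hm : 1 ≤ m)
    (hK : Fintype.card K = 3 ^ (2 * m + 1)) (y : ↥(twistedG2 K (3 ^ m))) (p : ℕ) (hp : p.Prime)
    (hpo : orderOf y = p) (hpd : p ∣ (3 ^ (2 * m + 1) + 1) / 4) :
    Nat.card ↥(Subgroup.centralizer {y}) = 3 ^ (2 * m + 1) + 1 ∧
      ∀ x ∈ Subgroup.centralizer {y}, ∀ x' ∈ Subgroup.centralizer {y}, x * x' = x' * x := by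
  have := charP_of_card hK
  obtain ⟨ψ, hinj, hrange, hinv, hsyl⟩ := exists_psi_data hm hK
  have hq8 : 3 ^ (2 * m + 1) % 8 = 3 := by
    have := card_mod_eight m hK
    rw [hK] at this
    exact this
  have hq3 : 3 ∣ 3 ^ (2 * m + 1) := dvd_pow_self 3 (by omega)
  obtain ⟨hd, hp2, hpq, hpq1, hidx'⟩ := prime_facts (3 ^ (2 * m + 1)) p hq8 hq3 hp hpd
  have hfin : Finite ↥(twistedG2 K (3 ^ m)) := by
    apply Nat.finite_of_card_ne_zero
    rw [card_twistedG2_eq m hK]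
    have h3 : 3 ^ 1 ≤ 3 ^ (2 * m + 1) := Nat.pow_le_pow_right (by norm_num) (by omega)
    have h4 : 0 < 3 ^ (2 * m + 1) - 1 := by omega
    have h5 : 0 < (3 ^ (2 * m + 1)) ^ 3 := Nat.pow_pos (by omega)
    exact (Nat.mul_pos (Nat.mul_pos h5 h4) (Nat.succ_pos _)).ne'
  have hL : ∀ l : Matrix.ProjectiveSpecialLinearGroup (Fin 2) K, orderOf l = p →
      Nat.card (Subgroup.centralizer {l}) * 2 = 3 ^ (2 * m + 1) + 1 ∧
      ∀ x ∈ Subgroup.centralizer {l}, ∀ x' ∈ Subgroup.centralizer {l}, x * x' = x' * x := by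
    intro l hl
    have h1 := Cfsg.Agent.Lib.Helper5.PSL2Cent.centralizer_PSL_of_prime (F := K)
      (by rw [hK]; omega) l p hp hp2 (by rw [hK]; exact hpq) (by rw [hK]; exact hpq1) hl
    rw [hK] at h1
    exact h1
  have hidx : ¬ p ∣ (Subgroup.centralizer {ψ (Multiplicative.ofAdd 1, 1)}).index := by
    have h1 := (Subgroup.centralizer {ψ (Multiplicative.ofAdd 1, 1)}).card_mul_index
    rw [← hrange, card_twistedG2_eq m hK,
      ← Nat.card_congr (MonoidHom.ofInjective hinj).toEquiv, Nat.card_prod, card_mult_zmod_two] at h1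
    have h2 := Cfsg.Agent.Lib.Helper4.card_PSL_mul (F := K) 2 (by norm_num)
    rw [Cfsg.Agent.Lib.Helper4.card_SL2, hK] at h2
    have hg : Nat.gcd 2 (3 ^ (2 * m + 1) - 1) = 2 := by
      apply Nat.gcd_eq_left
      omega
    rw [hg] at h2
    rw [h2] at h1
    have h3 : 2 ≤ 3 ^ (2 * m + 1) := by omega
    rw [← hrange, index_of_card _ _ h3 h1]
    exact hidx'
  have h3 := no_three_commute m hK p hp hpq hpq1
  exact centralizer_of_prime_abs ψ hinj hrange (3 ^ (2 * m + 1)) p hp hp2 hL hq8 hsyl hinv hidx h3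
    y hpo

end Cfsg.Agent.Lib.Helper5.ReeTori
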