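import Mathlib
import Cfsg.Prelude.Def_ChevStructure
import Cfsg.Prelude.Def_LieTwisted
import Cfsg.Agent.Lib.Helper5.ReeCent.CentE2

set_option autoImplicit false

/-!
The centralisers in `²G₂(q)` of the cyclic subgroups of orders `(q - 1) / 2` and `(q + 1) / 4`.
-/

namespace Cfsg.Agent.Lib.Helper5.ReeTori

open Cfsg Cfsg.Lie Cfsg.Agent.Lib.Helper5.ChevSym Cfsg.Agent.Lib.Helper5.ChevSymP
  Cfsg.Agent.Lib.Helper5.ChevStruct Cfsg.Agent.Lib.Helper5.Ree Cfsg.Agent.Lib.Helper5.PSL2Solv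
  Cfsg.Agent.Lib.Helper5.ReeCent Cfsg.Agent.Lib.Helper5.ReeNorm

theorem comm_of_isCyclic {G : Type*} [Group G] (H : Subgroup G) (hH : IsCyclic H) (x : G)
    (hx : x ∈ H) (x' : G) (hx' : x' ∈ H) : x * x' = x' * x := by
  obtain ⟨g, hg⟩ := hH.exists_generator
  obtain ⟨i, hi⟩ := Subgroup.mem_zpowers_iff.1 (hg ⟨x, hx⟩)
  obtain ⟨j, hj⟩ := Subgroup.mem_zpowers_iff.1 (hg ⟨x', hx'⟩)
  have h1 : x = ((g ^ i : ↥H) : G) := by rw [hi]
  have h2 : x' = ((g ^ j : ↥H) : G) := by rw [hj]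
  rw [h1, h2, ← Subgroup.coe_mul, ← Subgroup.coe_mul, ← zpow_add, ← zpow_add, add_comm]

theorem pow_ge_twenty_seven {m : ℕ} (hm : 1 ≤ m) : 27 ≤ 3 ^ (2 * m + 1) := by
  have : 3 ^ 3 ≤ 3 ^ (2 * m + 1) := Nat.pow_le_pow_right (by norm_num) (by omega)
  omega

theorem pow_mod_eight (m : ℕ) : 3 ^ (2 * m + 1) % 8 = 3 := by
  have := pow_mod_sixteen m
  omega

/-- the centralisers of the cyclic subgroups of orders `(q - 1) / 2` and `(q + 1) / 4` -/
theorem ree_centralizers_of_tori {K : Type*} [Field K] [Fintype K] {m : ℕ} (hm : 1 ≤ m)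
    (hK : Fintype.card K = 3 ^ (2 * m + 1)) (H : Subgroup ↥(twistedG2 K (3 ^ m)))
    (hH : IsCyclic H) :
    (Nat.card H = (3 ^ (2 * m + 1) - 1) / 2 →
      IsCyclic ↥(Subgroup.centralizer (H : Set ↥(twistedG2 K (3 ^ m)))) ∧
        Nat.card ↥(Subgroup.centralizer (H : Set ↥(twistedG2 K (3 ^ m)))) = 3 ^ (2 * m + 1) - 1 ∧
        ∀ A : Subgroup ↥(twistedG2 K (3 ^ m)), A ≤ H → A ≠ ⊥ →
          Subgroup.centralizer (A : Set ↥(twistedG2 K (3 ^ m))) =
            Subgroup.centralizer (H : Set ↥(twistedG2 K (3 ^ m)))) ∧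
    (Nat.card H = (3 ^ (2 * m + 1) + 1) / 4 →
      IsMulCommutative ↥(Subgroup.centralizer (H : Set ↥(twistedG2 K (3 ^ m)))) ∧
        Nat.card ↥(Subgroup.centralizer (H : Set ↥(twistedG2 K (3 ^ m)))) = 3 ^ (2 * m + 1) + 1 ∧
        (∀ x ∈ Subgroup.centralizer (H : Set ↥(twistedG2 K (3 ^ m))), orderOf x ≠ 4) ∧
        ∀ A : Subgroup ↥(twistedG2 K (3 ^ m)), A ≤ H → A ≠ ⊥ →
          Subgroup.centralizer (A : Set ↥(twistedG2 K (3 ^ m))) =
            Subgroup.centralizer (H : Set ↥(twistedG2 K (3 ^ m)))) := by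
  have := charP_of_card hK
  have hq27 := pow_ge_twenty_seven hm
  have hq8 := pow_mod_eight m
  have hfin : Finite ↥(twistedG2 K (3 ^ m)) := by
    apply Nat.finite_of_card_ne_zero
    rw [card_twistedG2_eq m hK]
    have h4 : 0 < 3 ^ (2 * m + 1) - 1 := by omega
    have h5 : 0 < (3 ^ (2 * m + 1)) ^ 3 := Nat.pow_pos (by omega)
    exact (Nat.mul_pos (Nat.mul_pos h5 h4) (Nat.succ_pos _)).ne'
  have hHcomm := comm_of_isCyclic H hH
  constructor
  · intro hcard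
    have key : ∀ A : Subgroup ↥(twistedG2 K (3 ^ m)), A ≤ H → A ≠ ⊥ →
        ∃ y : ↥(twistedG2 K (3 ^ m)),
          Subgroup.centralizer (A : Set ↥(twistedG2 K (3 ^ m))) = Subgroup.centralizer {y} ∧
          Subgroup.centralizer (H : Set ↥(twistedG2 K (3 ^ m))) = Subgroup.centralizer {y} ∧
          IsCyclic ↥(Subgroup.centralizer {y}) ∧
          Nat.card ↥(Subgroup.centralizer {y}) = 3 ^ (2 * m + 1) - 1 := by
      intro A hA hA1
      obtain ⟨y, hyA, p, hp, hyo, hpA⟩ := exists_prime_order_mem A hA1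
      have hpH : p ∣ (3 ^ (2 * m + 1) - 1) / 2 := by
        rw [← hcard]
        exact dvd_trans hpA (Subgroup.card_dvd_of_le hA)
      have hp2 : p ≠ 2 := by
        rintro rfl
        have : (3 ^ (2 * m + 1) - 1) / 2 % 2 = 1 := by omega
        omega
      have hpd : p ∣ 3 ^ (2 * m + 1) - 1 :=
        dvd_trans hpH (Nat.div_dvd_of_dvd (by omega))
      obtain ⟨hc1, hc2, hc3⟩ := centralizer_split_prime m hK y p hp hyo hp2 hpd
      exact ⟨y, centralizer_eq_of_mem H A hHcomm hA y hyA hc3,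
        centralizer_eq_of_mem H H hHcomm le_rfl y (hA hyA) hc3, hc1, hc2⟩
    have hH1 : H ≠ ⊥ := by
      rintro rfl
      rw [Subgroup.card_bot] at hcard
      omega
    obtain ⟨y, -, h2, h3, h4⟩ := key H le_rfl hH1
    refine ⟨?_, ?_, ?_⟩
    · rw [h2]; exact h3
    · rw [h2]; exact h4
    · intro A hA hA1
      obtain ⟨y', h1', h2', -, -⟩ := key A hA hA1
      rw [h1', h2']
  · intro hcard
    obtain ⟨ψ, -, -, -, hsyl⟩ := exists_psi_data hm hK
    have key : ∀ A : Subgroup ↥(twistedG2 K (3 ^ m)), A ≤ H → A ≠ ⊥ →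
        ∃ y : ↥(twistedG2 K (3 ^ m)),
          Subgroup.centralizer (A : Set ↥(twistedG2 K (3 ^ m))) = Subgroup.centralizer {y} ∧
          Subgroup.centralizer (H : Set ↥(twistedG2 K (3 ^ m))) = Subgroup.centralizer {y} ∧
          Nat.card ↥(Subgroup.centralizer {y}) = 3 ^ (2 * m + 1) + 1 ∧
          ∀ x ∈ Subgroup.centralizer {y}, ∀ x' ∈ Subgroup.centralizer {y}, x * x' = x' * x := by
      intro A hA hA1
      obtain ⟨y, hyA, p, hp, hyo, hpA⟩ := exists_prime_order_mem A hA1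
      have hpH : p ∣ (3 ^ (2 * m + 1) + 1) / 4 := by
        rw [← hcard]
        exact dvd_trans hpA (Subgroup.card_dvd_of_le hA)
      obtain ⟨hc2, hc3⟩ := centralizer_quarter_prime hm hK y p hp hyo hpH
      exact ⟨y, centralizer_eq_of_mem H A hHcomm hA y hyA hc3,
        centralizer_eq_of_mem H H hHcomm le_rfl y (hA hyA) hc3, hc2, hc3⟩
    have hH1 : H ≠ ⊥ := by
      rintro rfl
      rw [Subgroup.card_bot] at hcard
      omega
    obtain ⟨y, -, h2, h3, h4⟩ := key H le_rfl hH1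
    refine ⟨?_, ?_, ?_, ?_⟩
    · rw [h2]
      exact ⟨⟨fun a b => Subtype.ext (h4 a.1 a.2 b.1 b.2)⟩⟩
    · rw [h2]; exact h3
    · intro x _ hx4
      have h5 := sq_eq_one_of_two_group hsyl (Subgroup.zpowers x) 2
        (by rw [Nat.card_zpowers, hx4]; norm_num) x (Subgroup.mem_zpowers x)
      have h6 : orderOf x ∣ 2 := by
        apply orderOf_dvd_of_pow_eq_one
        rw [pow_two, h5]
      rw [hx4] at h6
      norm_num at h6
    · intro A hA hA1
      obtain ⟨y', h1', h2', -, -⟩ := key A hA hA1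
      rw [h1', h2']

end Cfsg.Agent.Lib.Helper5.ReeTori
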