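import Mathlib
import Cfsg.Prelude.Def_ChevStructure
import Cfsg.Prelude.Def_LieTwisted
import Cfsg.Agent.Lib.Helper5.ReeCent.Syl

set_option autoImplicit false

/-!
The centraliser of an involution of `H¹` in the Ree group `²G₂(q)`, and the Sylow 2-subgroups.
-/

namespace Cfsg.Agent.Lib.Helper5.ReeCent

open Cfsg Cfsg.Lie Cfsg.Agent.Lib.Helper5.ChevSym Cfsg.Agent.Lib.Helper5.ChevSymP
  Cfsg.Agent.Lib.Helper5.ChevStruct Cfsg.Agent.Lib.Helper5.Ree Cfsg.Agent.Lib.Helper5.PSL2Solv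

theorem ree_involution_centralizer {K : Type*} [Field K] [Fintype K] {m : ℕ}
    (hK : Fintype.card K = 3 ^ (2 * m + 1))
    (a : ↥(twistedG2 K (3 ^ m))) (haH : (a : GL chevG2.Idx K) ∈ chevG2.diagonalSubgroup K)
    (ha1 : a ≠ 1) (ha2 : a * a = 1) :
    Nonempty (↥(Subgroup.centralizer {a}) ≃*
        Multiplicative (ZMod 2) × Matrix.ProjectiveSpecialLinearGroup (Fin 2) K) ∧
      ∀ S : Sylow 2 ↥(twistedG2 K (3 ^ m)), Nat.card S = 8 ∧ ∀ x ∈ S, x * x = 1 := by
  haveI := charP_of_card hK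
  have hq := pow_card_eq hK
  obtain ⟨Φ, hu, hl⟩ := exists_hom m hq
  have hfix : (a : GL chevG2.Idx K) ∈ chevG2.diagonalSubgroup K ⊓ fixG m :=
    Subgroup.mem_inf.2 ⟨haH, twisted_le_fixG m hq a.2⟩
  obtain ⟨z, hz⟩ := (diag_fix_iff m hq _).1 hfix
  have hzz : z * z = 1 := by
    apply hz_injective m
    rw [map_mul, ← hz, map_one]
    exact congrArg Subtype.val ha2
  have hz1 : z ≠ 1 := by
    rintro rfl
    apply ha1
    apply Subtype.ext
    rw [hz, map_one]
    rfl
  have hzm : z = -1 := by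
    have h1 : ((z : K)) ^ 2 = 1 := by
      rw [pow_two, ← Units.val_mul, hzz, Units.val_one]
    rcases sq_eq_one_iff.1 h1 with h | h
    · exact absurd (Units.ext h) hz1
    · exact Units.ext (by rw [h, Units.val_neg, Units.val_one])
  have haG : a = aG m hq := by
    apply Subtype.ext
    rw [hz, hzm]
    rfl
  refine ⟨?_, fun S => sylow_two m hK hq Φ hu hl S⟩
  rw [haG]
  exact centralizer_iso m hq Φ hu hl

end Cfsg.Agent.Lib.Helper5.ReeCent
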